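import Groth.Prelude.Def_Frob
import Groth.Prelude.Def_FrobAlg
import Groth.Agent.FrobAlg.K674.RelMain
import Mathlib.AlgebraicGeometry.Morphisms.Flat
import Mathlib.AlgebraicGeometry.Morphisms.Smooth

/-!
# The relative Frobenius of a smooth morphism of schemes is flat

* `frob_spec`: the absolute Frobenius of an affine scheme;
* `relFrob_spec`: the relative Frobenius of `Spec B ⟶ Spec A` is `Spec` of the ring-level relative Frobenius;
* `relFrob_map`: compatibility with open immersions of source and target;
* `flat_relFrob`: the relative Frobenius of a smooth morphism is flat.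
-/

set_option autoImplicit false

universe u

open CategoryTheory CategoryTheory.Limits AlgebraicGeometry Opposite TensorProduct

namespace K865.RelFrobFlat

open FrobSch

variable {p : ℕ} [Fact p.Prime]

/-- The absolute Frobenius of an affine scheme. -/
theorem frob_spec (R : Type u) [CommRing R] [IsCharP (Spec (CommRingCat.of R)) p] (φ : R →+* R)
    (hφ : ∀ r, φ r = r ^ p) : frob (Spec (CommRingCat.of R)) p = Spec.map (CommRingCat.ofHom φ) := by
  obtain ⟨ψ, hψ⟩ := Spec.map_surjective (frob (Spec (CommRingCat.of R)) p)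
  rw [← hψ]
  congr 1
  ext r
  change ψ.hom r = φ r
  rw [hφ]
  have h1 := Scheme.ΓSpecIso_inv_naturality ψ
  have h2 : (Scheme.ΓSpecIso (CommRingCat.of R)).inv.hom (ψ.hom r) =
      (Spec.map ψ).appTop ((Scheme.ΓSpecIso (CommRingCat.of R)).inv.hom r) :=
    congrArg (fun f => f.hom r) h1
  rw [hψ, frob_appTop, ← map_pow] at h2
  exact (ConcreteCategory.bijective_of_isIso (Scheme.ΓSpecIso (CommRingCat.of R)).inv).1 h2

/-- Compatibility of the relative Frobenius with a square. -/
theorem relFrob_map {X S X' S' : Scheme.{u}} [IsCharP S p] [IsCharP S' p] [IsCharP X p] [IsCharP X' p]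
    (f : X ⟶ S) (f' : X' ⟶ S')
    (j : X' ⟶ X) (i : S' ⟶ S) (h : f' ≫ i = j ≫ f) :
    relFrob f' p ≫ pullback.map f' (frob S' p) f (frob S p) j i i h (frob_comp p i) =
      j ≫ relFrob f p := by
  apply pullback.hom_ext
  · refine (Category.assoc _ _ _).trans ?_
    refine (congrArg (fun t => relFrob f' p ≫ t) (pullback.lift_fst _ _ _)).trans ?_
    rw [relFrob_fst_assoc, Category.assoc, relFrob_fst, frob_comp]
  · refine (Category.assoc _ _ _).trans ?_
    refine (congrArg (fun t => relFrob f' p ≫ t) (pullback.lift_snd _ _ _)).trans ?_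
    rw [relFrob_snd_assoc, Category.assoc, relFrob_snd, h]

section affine

variable (A B : Type u) [CommRing A] [CommRing B] [Algebra A B] [CharP A p] [CharP B p]

/-- The Frobenius twist of an affine scheme. -/
noncomputable def twistIso : pullback (Spec.map (CommRingCat.ofHom (algebraMap A B)))
      (frob (Spec (CommRingCat.of A)) p) ≅
    Spec (CommRingCat.of (FrobAlg.BaseChange p A B)) :=
  pullback.congrHom rfl (frob_spec A (frobenius A p) (fun _ => rfl)) ≪≫
    pullbackSpecIso A B (FrobAlg.Twist p A)

theorem relFrob_spec : relFrob (Spec.map (CommRingCat.ofHom (algebraMap A B))) p ≫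
    (twistIso (p := p) A B).hom = Spec.map (CommRingCat.ofHom (FrobAlg.relFrob p A B)) := by
  have : IsCharP (Spec (CommRingCat.of A)) p := inferInstance
  have : IsCharP (Spec (CommRingCat.of B)) p := inferInstance
  rw [← Iso.eq_comp_inv]
  apply pullback.hom_ext
  · rw [relFrob_fst, frob_spec B (frobenius B p) (fun _ => rfl)]
    have h1 : (twistIso (p := p) A B).inv ≫ pullback.fst _ _ =
        Spec.map (CommRingCat.ofHom (Algebra.TensorProduct.includeLeftRingHom (R := A) (A := B)
          (B := FrobAlg.Twist p A))) := by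
      simp only [twistIso, Iso.trans_inv, Category.assoc, pullback.congrHom_inv, pullback.lift_fst,
        Category.comp_id]
      exact pullbackSpecIso_inv_fst A B (FrobAlg.Twist p A)
    rw [Category.assoc, h1, ← Spec.map_comp, ← CommRingCat.ofHom_comp]
    congr 2
    ext b
    change frobenius B p b = FrobAlg.relFrob p A B (b ⊗ₜ (1 : FrobAlg.Twist p A))
    rw [K674.RelPush.relFrob_tmul, map_one, map_one, mul_one, frobenius_def]
  · rw [relFrob_snd]
    have h1 : (twistIso (p := p) A B).inv ≫ pullback.snd _ _ =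
        Spec.map (CommRingCat.ofHom ((Algebra.TensorProduct.includeRight (R := A) (A := B)
          (B := FrobAlg.Twist p A)).toRingHom.comp (FrobAlg.toTwist p A : A →+* FrobAlg.Twist p A))) := by
      simp only [twistIso, Iso.trans_inv, Category.assoc, pullback.congrHom_inv, pullback.lift_snd,
        Category.comp_id]
      exact pullbackSpecIso_inv_snd A B (FrobAlg.Twist p A)
    rw [Category.assoc, h1, ← Spec.map_comp, ← CommRingCat.ofHom_comp]
    congr 2
    ext a
    change algebraMap A B a = FrobAlg.relFrob p A B ((1 : B) ⊗ₜ FrobAlg.toTwist p A a)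
    rw [K674.RelPush.relFrob_tmul, one_pow, one_mul, RingEquiv.symm_apply_apply]

theorem flat_relFrob_spec [Algebra.Smooth A B] :
    Flat (relFrob (Spec.map (CommRingCat.ofHom (algebraMap A B))) p) := by
  rw [← MorphismProperty.cancel_right_of_respectsIso (P := @Flat) _ (twistIso (p := p) A B).hom,
    relFrob_spec]
  exact Flat.SpecMap_iff.2 (K674.RelMain.flat p A B)

end affine

theorem charP_of_isCharP {X : Scheme.{u}} [IsCharP X p] (U : X.Opens) [Nonempty U] : CharP Γ(X, U) p :=
  (CharP.charP_iff_prime_eq_zero Fact.out).2 (natCast_eq_zero_app X p U)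

/-- The relative Frobenius of a smooth morphism is flat. -/
theorem flat_relFrob {X S : Scheme.{u}} [IsCharP S p] (f : X ⟶ S) [Smooth f] : Flat (relFrob f p) := by
  have : IsCharP X p := IsCharP.of_hom f p
  choose V hV U hU hx e he using fun x : X => Smooth.exists_isStandardSmooth f x
  refine (IsZariskiLocalAtSource.iff_of_iSup_eq_top (P := @Flat) U
    (top_le_iff.1 fun x _ => TopologicalSpace.Opens.mem_iSup.2 ⟨x, hx x⟩)).2 fun x => ?_
  have hne : Nonempty (U x) := ⟨⟨x, hx x⟩⟩
  have hne' : Nonempty (V x) := ⟨⟨f x, e x (hx x)⟩⟩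
  have hcB : CharP Γ(X, U x) p := charP_of_isCharP (U x)
  have hcA : CharP Γ(S, V x) p := charP_of_isCharP (V x)
  let _ : Algebra Γ(S, V x) Γ(X, U x) := (f.appLE (V x) (U x) (e x)).hom.toAlgebra
  have hs : Algebra.IsStandardSmooth Γ(S, V x) Γ(X, U x) := he x
  have hfl : Flat (relFrob (Spec.map (CommRingCat.ofHom (algebraMap Γ(S, V x) Γ(X, U x)))) p) :=
    flat_relFrob_spec _ _
  have hsq : Spec.map (CommRingCat.ofHom (algebraMap Γ(S, V x) Γ(X, U x))) ≫ (hV x).fromSpec =
      (hU x).fromSpec ≫ f := (hV x).SpecMap_appLE_fromSpec f (hU x) (e x)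
  have h1 := relFrob_map (p := p) f _ (hU x).fromSpec (hV x).fromSpec hsq
  have h2 : Flat ((hU x).fromSpec ≫ relFrob f p) := by
    rw [← h1]
    infer_instance
  rw [← MorphismProperty.cancel_left_of_respectsIso (P := @Flat) (hU x).isoSpec.inv,
    ← Category.assoc]
  exact h2

end K865.RelFrobFlat
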