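import Groth.Prelude.Def_Frob
import Mathlib.AlgebraicGeometry.Properties

/-!
# Relative Frobenius calculus for schemes

Composition, base change and cancellation for the relative Frobenius `FrobSch.relFrob`, relatively perfect
morphisms, and the fact that the absolute Frobenius of a reduced scheme is an epimorphism.
-/

set_option autoImplicit false

universe u

open CategoryTheory CategoryTheory.Limits AlgebraicGeometry Opposite

namespace K865.RelFrob

open FrobSch

variable {p : ℕ} [Fact p.Prime]

/-- In a reduced ring with `p = 0`, the `p`-th power map is injective. -/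
theorem pow_injective_of_reduced {R : Type*} [CommRing R] [_root_.IsReduced R] (hp : (p : R) = 0)
    {a b : R} (h : a ^ p = b ^ p) : a = b := by
  rcases subsingleton_or_nontrivial R with hR | hR
  · exact Subsingleton.elim _ _
  · have : CharP R p := (CharP.charP_iff_prime_eq_zero Fact.out).2 hp
    have : (a - b) ^ p = 0 := by rw [sub_pow_char, h, sub_self]
    exact sub_eq_zero.1 (pow_eq_zero_iff (Fact.out : p.Prime).ne_zero |>.1 this)

/-- Two morphisms out of a reduced scheme which agree after composition with the absolute Frobenius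
are equal. -/
theorem eq_of_frob_comp_eq {Y Z : Scheme.{u}} [IsCharP Y p] [IsReduced Y] {g₁ g₂ : Y ⟶ Z}
    (h : frob Y p ≫ g₁ = frob Y p ≫ g₂) : g₁ = g₂ := by
  have hb : g₁.base = g₂.base := by
    have := congrArg (fun f => (Scheme.Hom.toLRSHom f).base) h
    exact this
  refine Scheme.Hom.ext hb fun U => ?_
  ext s
  apply pow_injective_of_reduced (p := p) (natCast_eq_zero_app Y p _)
  have h2 := Scheme.Hom.congr_app h U
  have h3 : ((g₁.app U).hom s) ^ p =
      (Y.presheaf.map (eqToHom (by rw [← hb])).op).hom (((g₂.app U).hom s) ^ p) :=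
    congrArg (fun f => f.hom s) h2
  rw [CommRingCat.comp_apply, ← map_pow]
  rw [show (g₁.app U).hom s ^ p = _ from h3, ← CommRingCat.comp_apply, ← Functor.map_comp]
  simp

/-- The relative Frobenius is an isomorphism iff the Frobenius square is cartesian. -/
theorem isIso_relFrob_iff {X S : Scheme.{u}} [IsCharP X p] [IsCharP S p] (f : X ⟶ S) :
    IsIso (relFrob f p) ↔ IsPullback (frob X p) f f (frob S p) := by
  constructor
  · intro h
    refine IsPullback.of_iso_pullback ⟨frob_comp p f⟩ (asIso (relFrob f p)) ?_ ?_
    · simp
    · simp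
  · intro h
    have : relFrob f p = h.isoPullback.hom := by
      apply pullback.hom_ext <;> simp
    rw [this]
    infer_instance

/-- Composites of relatively perfect morphisms are relatively perfect. -/
theorem isIso_relFrob_comp {X T S : Scheme.{u}} [IsCharP T p] [IsCharP S p] (π : X ⟶ T) (f : T ⟶ S)
    (hπ : IsIso (relFrob π p)) (hf : IsIso (relFrob f p)) : IsIso (relFrob (π ≫ f) p) := by
  have : IsCharP X p := IsCharP.of_hom π p
  rw [isIso_relFrob_iff] at *
  exact hπ.paste_vert hf

/-- Cancellation for relatively perfect morphisms. -/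
theorem isIso_relFrob_of_comp {X T S : Scheme.{u}} [IsCharP T p] [IsCharP S p] (π : X ⟶ T) (f : T ⟶ S)
    (hπf : IsIso (relFrob (π ≫ f) p)) (hf : IsIso (relFrob f p)) : IsIso (relFrob π p) := by
  have : IsCharP X p := IsCharP.of_hom π p
  rw [isIso_relFrob_iff] at *
  exact IsPullback.of_bot hπf (frob_comp p π) hf

/-- Relatively perfect morphisms are stable under base change. -/
theorem isIso_relFrob_of_isPullback {X' X S' S : Scheme.{u}} [IsCharP S p] [IsCharP S' p]
    {g' : X' ⟶ X} {f' : X' ⟶ S'} {f : X ⟶ S} {g : S' ⟶ S} (h : IsPullback g' f' f g)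
    (hf : IsIso (relFrob f p)) : IsIso (relFrob f' p) := by
  have : IsCharP X p := IsCharP.of_hom f p
  have : IsCharP X' p := IsCharP.of_hom f' p
  rw [isIso_relFrob_iff] at *
  have h1 : IsPullback (g' ≫ frob X p) f' f (g ≫ frob S p) := h.paste_horiz hf
  have h2 : IsPullback (frob X' p ≫ g') f' f (frob S' p ≫ g) := by
    rw [frob_comp, frob_comp]; exact h1
  exact IsPullback.of_right h2 (frob_comp p f') h

end K865.RelFrob
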