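import Groth.Prelude.Def_W4c3convisocdirimgFrobIter
import Mathlib.AlgebraicGeometry.IdealSheaf.Subscheme
import Mathlib.AlgebraicGeometry.Morphisms.Affine
import Groth.Agent.FrobSch.K865.RelFrob

/-!
# Iterated absolute Frobenius: sections, kernels, naturality
-/

set_option autoImplicit false

universe u

open CategoryTheory CategoryTheory.Limits AlgebraicGeometry Opposite

namespace K865.FrobIter

open FrobSch

variable {p : ℕ} [Fact p.Prime]

instance isAffineHom_frob (X : Scheme.{u}) [IsCharP X p] : IsAffineHom (frob X p) := ⟨fun _ hU => hU⟩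

instance isAffineHom_frobIter (X : Scheme.{u}) [IsCharP X p] (n : ℕ) :
    IsAffineHom (frobIter X p n) := by
  induction n with
  | zero => rw [frobIter_zero]; infer_instance
  | succ n ih => rw [frobIter_succ]; infer_instance

theorem frobIter_base (X : Scheme.{u}) [IsCharP X p] (n : ℕ) :
    (frobIter X p n).base = 𝟙 _ := by
  induction n with
  | zero => rfl
  | succ n ih =>
    rw [frobIter_succ, Scheme.Hom.comp_base, ih, frob_base, Category.comp_id]

theorem frobIter_preimage (X : Scheme.{u}) [IsCharP X p] (n : ℕ) (U : X.Opens) :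
    (frobIter X p n) ⁻¹ᵁ U = U := by
  rw [frobIter_base]; rfl

theorem frobIter_app (X : Scheme.{u}) [IsCharP X p] (n : ℕ) (U : X.Opens) (s : Γ(X, U)) :
    (frobIter X p n).app U s =
      X.presheaf.map (eqToHom (frobIter_preimage X n U)).op (s ^ p ^ n) := by
  induction n with
  | zero =>
    change s = (X.presheaf.map (𝟙 _)).hom (s ^ p ^ 0)
    rw [pow_zero, pow_one, X.presheaf.map_id]
    rfl
  | succ n ih =>
    have h1 : (frobIter X p (n+1)).app U s = ((frobIter X p n).app U s) ^ p := rfl
    rw [h1, ih, ← map_pow, ← pow_mul, ← pow_succ]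
    rfl

theorem mem_ker_frobIter (X : Scheme.{u}) [IsCharP X p] (n : ℕ) (U : X.affineOpens)
    (s : Γ(X, U)) : s ∈ (frobIter X p n).ker.ideal U ↔ s ^ p ^ n = 0 := by
  rw [Scheme.Hom.ker_apply, RingHom.mem_ker, frobIter_app]
  constructor
  · intro h
    have h2 := congrArg (X.presheaf.map (eqToHom (frobIter_preimage X n U).symm).op) h
    rw [← CommRingCat.comp_apply, ← Functor.map_comp] at h2
    simpa using h2
  · intro h
    rw [h, map_zero]

@[reassoc]
theorem frobIter_comp {X Y : Scheme.{u}} [IsCharP X p] [IsCharP Y p] (f : X ⟶ Y) (n : ℕ) :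
    frobIter X p n ≫ f = f ≫ frobIter Y p n := by
  induction n with
  | zero => simp
  | succ n ih =>
    rw [frobIter_succ, frobIter_succ, Category.assoc, ih, frob_comp_assoc]

theorem frobIter_succ' (X : Scheme.{u}) [IsCharP X p] (n : ℕ) :
    frobIter X p (n + 1) = frobIter X p n ≫ frob X p := by
  rw [frobIter_comp, frobIter_succ]

theorem frobIter_add (X : Scheme.{u}) [IsCharP X p] (m n : ℕ) :
    frobIter X p (m + n) = frobIter X p m ≫ frobIter X p n := by
  induction m with
  | zero => simp
  | succ m ih => rw [Nat.add_right_comm, frobIter_succ, frobIter_succ, ih, Category.assoc]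

end K865.FrobIter
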