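import Groth.Prelude.Def_Coh
import Groth.Prelude.Def_ClSub2
import Groth.Prelude.Def_Frob

/-!
# The `p`-th power map of `O_X` as a map of abelian sheaves, versus `O_X → F_* O_X`

* `pushIso`: `toAb (F_* M) ≅ toAb M`;
* `unit_pushIso`: the map of abelian sheaves underlying `O_X → F_* O_X` is the `p`-th power map;
* `exists_split_of_section`: a section of `O_X → F_* O_X` in modules gives a Frobenius splitting.
-/

set_option autoImplicit false

universe u

open CategoryTheory CategoryTheory.Limits AlgebraicGeometry Opposite TopologicalSpace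

namespace K865.FrobMod

open FrobSch

variable {X : Scheme.{u}} {p : ℕ} [Fact p.Prime] [IsCharP X p]

/-- `toAb (F_* M) ≅ toAb M`, the identity on sections. -/
noncomputable def pushIso (M : X.Modules) :
    Coh.toAb ((Scheme.Modules.pushforward (frob X p)).obj M) ≅ Coh.toAb M where
  hom := ⟨{ app := fun U => AddCommGrpCat.ofHom (AddMonoidHom.id Γ(M, U.unop))
            naturality := fun U V f => rfl }⟩
  inv := ⟨{ app := fun U => AddCommGrpCat.ofHom (AddMonoidHom.id Γ(M, U.unop))
            naturality := fun U V f => rfl }⟩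
  hom_inv_id := by ext U m; rfl
  inv_hom_id := by ext U m; rfl

variable (φ : Coh.toAb (Coh.structureModule X) ⟶ Coh.toAb (Coh.structureModule X))
  (hφ : ∀ (U : X.Opens) (t : Γ(X, U)), φ.hom.app (op U) t = t ^ p)

include hφ in
theorem unit_pushIso : (SheafOfModules.toSheaf X.ringCatSheaf).map (ClSub.unitToPush (frob X p)) ≫
    (pushIso (p := p) (Coh.structureModule X)).hom = φ := by
  ext U m
  exact (hφ U.unop m).symm

include hφ in
theorem exists_split_of_section
    (s' : (Scheme.Modules.pushforward (frob X p)).obj (Coh.structureModule X) ⟶ Coh.structureModule X)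
    (h : ClSub.unitToPush (frob X p) ≫ s' = 𝟙 _) :
    ∃ s : Coh.toAb (Coh.structureModule X) ⟶ Coh.toAb (Coh.structureModule X),
        φ ≫ s = 𝟙 _ ∧ ∀ (U : X.Opens) (a b : Γ(X, U)),
          s.hom.app (op U) (a ^ p * b) = a * @id Γ(X, U) (s.hom.app (op U) b) := by
  refine ⟨(pushIso (p := p) (Coh.structureModule X)).inv ≫
    (SheafOfModules.toSheaf X.ringCatSheaf).map s', ?_, ?_⟩
  · rw [← unit_pushIso φ hφ, Category.assoc, Iso.hom_inv_id_assoc, ← Functor.map_comp]
    exact (congrArg (fun t => (SheafOfModules.toSheaf X.ringCatSheaf).map t) h).trans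
      (CategoryTheory.Functor.map_id _ _)
  · intro U a b
    exact Scheme.Modules.Hom.app_smul s' (U := U) a
      (show Γ((Scheme.Modules.pushforward (frob X p)).obj (Coh.structureModule X), U) from b)

end K865.FrobMod
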