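import Groth.Agent.Surf.K461.SerreDual
import Groth.Agent.CurvesC.UnitCoh
import Groth.Agent.CohqA.AffPush
import Groth.Agent.FrobSch.K865.FrobMod
import Groth.Agent.FrobSch.K865.FrobIter

/-!
# Frobenius splitting and Serre duality when `ω = O`

`exists_dual`: if `O_X` is an `n`-th exterior power of `Ω_{X/k}`, a linear form `t` on `H^n(X, O_X)` with
`Hom(F, O_X) = H^n(X, F)^*` for every quasi-coherent `F`.
`exists_section`: a map `ψ : O_X → F` of quasi-coherent modules which is injective on `H^n` has a retraction.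
-/

set_option autoImplicit false

universe u

open CategoryTheory CategoryTheory.Limits AlgebraicGeometry Opposite

attribute [local instance] HasDerivedCategory.standard

namespace K865.DualSplit

open Groth.Agent Groth.Agent.CurvesC Groth.Agent.CurvesC.RepX Groth.Agent.CurvesC.DualLin

variable (k : Type u) [Field k] (X : Scheme.{u}) [X.Over (Spec (CommRingCat.of k))]

section

attribute [local instance] LinMod.linearModules

theorem exists_dual [IsProper (X ↘ Spec (CommRingCat.of k))] (n : ℕ)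
    [SmoothOfRelativeDimension n (X ↘ Spec (CommRingCat.of k))] (W : X.Modules)
    (hW : ExtPow.IsExtPow n (Omega.sheaf (X ↘ Spec (CommRingCat.of k))) W) :
    ∃ t : HV X W n →ₗ[k] k, ∀ F : X.Modules, Coh.IsQCoh F →
      Function.Bijective (fun φ : F ⟶ W => t ∘ₗ HV.map k φ n) := by
  obtain ⟨τ, hτ⟩ := K461.SerreDual.exists_form k X n W hW
  refine ⟨τ ∘ₗ Linear.rightComp k (P X) (𝟙 _) ∘ₗ (homHVₗ k X W n).symm.toLinearMap, fun F hF => ?_⟩
  exact exists_unique_of_form k X n τ W (𝟙 _)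
    (fun K _ => by simp only [Category.comp_id]; exact Function.bijective_id) F
    (hτ _ (PerfA.QCohD.isQCohD_shift (PerfA.QCohD.isQCohD_inD F hF) (n : ℤ)))

end

variable {X}

theorem exists_section {n : ℕ} {W F : X.Modules} (t : HV X W n →ₗ[k] k)
    (hW : Function.Bijective (fun φ : W ⟶ W => t ∘ₗ HV.map k φ n))
    (hF : Function.Bijective (fun φ : F ⟶ W => t ∘ₗ HV.map k φ n)) (ψ : W ⟶ F)
    (hψ : Function.Injective (HV.map k ψ n)) : ∃ s : F ⟶ W, ψ ≫ s = 𝟙 W := by
  obtain ⟨g, hg⟩ := LinearMap.exists_leftInverse_of_injective (HV.map k ψ n)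
    (LinearMap.ker_eq_bot.2 hψ)
  obtain ⟨s, hs⟩ := hF.2 (t ∘ₗ g)
  refine ⟨s, hW.1 ?_⟩
  have h1 : t ∘ₗ HV.map k s n = t ∘ₗ g := hs
  change t ∘ₗ HV.map k (ψ ≫ s) n = t ∘ₗ HV.map k (𝟙 W) n
  rw [HV.map_comp, ← LinearMap.comp_assoc, h1, LinearMap.comp_assoc, hg, HV.map_id]

open FrobSch in
/-- If `O_X` is an `n`-th exterior power of `Ω_{X/k}` and the Frobenius is injective on `H^n(X, O_X)`, then `X` is
Frobenius split. -/
theorem exists_split {p : ℕ} [Fact p.Prime] [CharP k p] [IsProper (X ↘ Spec (CommRingCat.of k))] {n : ℕ}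
    [SmoothOfRelativeDimension n (X ↘ Spec (CommRingCat.of k))]
    (hω : ExtPow.IsExtPow n (Omega.sheaf (X ↘ Spec (CommRingCat.of k))) (Coh.structureModule X))
    (φ : Coh.toAb (Coh.structureModule X) ⟶ Coh.toAb (Coh.structureModule X))
    (hφ : ∀ (U : X.Opens) (t : Γ(X, U)), φ.hom.app (op U) t = t ^ p)
    (hinj : Function.Injective (Sheaf.H.map φ n)) :
    ∃ s : Coh.toAb (Coh.structureModule X) ⟶ Coh.toAb (Coh.structureModule X),
        φ ≫ s = 𝟙 _ ∧ ∀ (U : X.Opens) (a b : Γ(X, U)),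
          s.hom.app (op U) (a ^ p * b) = a * @id Γ(X, U) (s.hom.app (op U) b) := by
  have hX : IsCharP X p := IsCharP.of_hom (X ↘ Spec (CommRingCat.of k)) p
  have hqO : Coh.IsQCoh (Coh.structureModule X) := UnitCoh.isQCoh_unit X
  have hqF : Coh.IsQCoh ((Scheme.Modules.pushforward (frob X p)).obj (Coh.structureModule X)) :=
    CohqA.AffPush.isQCoh_push (frob X p) _ hqO
  obtain ⟨t, ht⟩ := exists_dual k X n _ hω
  obtain ⟨s', hs'⟩ := exists_section k t (ht _ hqO) (ht _ hqF) (ClSub.unitToPush (frob X p)) (by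
    intro x y hxy
    have h1 := congrArg (Sheaf.H.map (FrobMod.pushIso (p := p) (Coh.structureModule X)).hom n) hxy
    refine hinj ?_
    rw [← FrobMod.unit_pushIso φ hφ, Sheaf.H.map_comp_apply, Sheaf.H.map_comp_apply]
    exact h1)
  exact FrobMod.exists_split_of_section φ hφ s' hs'

end K865.DualSplit
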