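import Mathlib.LinearAlgebra.Dimension.Finrank
import Mathlib.LinearAlgebra.FiniteDimensional.Defs
import Mathlib.LinearAlgebra.FiniteDimensional.Lemmas

/-!
# Semilinear injections of vector spaces along a bijective endomorphism of the field

`finrank_le_of_semilinear`, `surjective_of_semilinear`: an injective additive map `j : V → W` with
`j (a • x) = σ a • j x` for a bijective ring endomorphism `σ` of the field does not decrease dimensions, and
is surjective when the dimensions are finite and equal.
-/

set_option autoImplicit false

namespace K865.SemiLin

variable {k : Type*} [Field k] {V W : Type*} [AddCommGroup V] [AddCommGroup W] [Module k V] [Module k W]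

/-- A semilinear injection sends linearly independent families to such. -/
theorem linearIndependent_comp (σ : k ≃+* k) (j : V →+ W) (hj : Function.Injective j)
    (hsemi : ∀ (a : k) (x : V), j (a • x) = σ a • j x) {ι : Type*} {v : ι → V}
    (hv : LinearIndependent k v) : LinearIndependent k (j ∘ v) := by
  refine hv.map_of_injective_injective (R' := k) (fun r => σ.symm r) j ?_ ?_ ?_
  · intro r hr
    simpa using hr
  · intro m hm
    exact (injective_iff_map_eq_zero j).1 hj m hm
  · intro r m
    rw [hsemi, RingEquiv.apply_symm_apply]

theorem finrank_le_of_semilinear [Module.Finite k W] (σ : k ≃+* k) (j : V →+ W)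
    (hj : Function.Injective j)
    (hsemi : ∀ (a : k) (x : V), j (a • x) = σ a • j x) :
    Module.finrank k V ≤ Module.finrank k W := by
  let b := Module.Basis.ofVectorSpace k V
  have h1 := linearIndependent_comp σ j hj hsemi b.linearIndependent
  have hfin : Finite (Module.Basis.ofVectorSpaceIndex k V) := h1.finite
  have : Fintype (Module.Basis.ofVectorSpaceIndex k V) := Fintype.ofFinite _
  rw [Module.finrank_eq_card_basis b]
  exact h1.fintype_card_le_finrank

theorem surjective_of_semilinear [Module.Finite k V] [Module.Finite k W] (σ : k ≃+* k) (j : V →+ W)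
    (hj : Function.Injective j)
    (hsemi : ∀ (a : k) (x : V), j (a • x) = σ a • j x)
    (hdim : Module.finrank k V = Module.finrank k W) : Function.Surjective j := by
  let b := Module.finBasis k V
  have h1 := linearIndependent_comp σ j hj hsemi b.linearIndependent
  have h2 : Submodule.span k (Set.range (j ∘ b)) = ⊤ :=
    h1.span_eq_top_of_card_eq_finrank' (by simp [hdim])
  let P : Submodule k W :=
    { carrier := Set.range j
      add_mem' := by
        rintro _ _ ⟨x, rfl⟩ ⟨y, rfl⟩
        exact ⟨x + y, map_add j x y⟩
      zero_mem' := ⟨0, map_zero j⟩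
      smul_mem' := by
        rintro c _ ⟨x, rfl⟩
        refine ⟨σ.symm c • x, ?_⟩
        rw [hsemi, RingEquiv.apply_symm_apply] }
  have h3 : Submodule.span k (Set.range (j ∘ b)) ≤ P := by
    rw [Submodule.span_le]
    rintro _ ⟨i, rfl⟩
    exact ⟨b i, rfl⟩
  intro y
  have hy : y ∈ P := h3 (by rw [h2]; trivial)
  exact hy

end K865.SemiLin
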