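import Groth.Prelude.Def_Coh
import Groth.Agent.Ega3B.HLes
import Groth.Agent.FrobSch.K865.SemiLin
import Groth.Agent.FrobSch.K865.RelFrob
import Mathlib.FieldTheory.Perfect

/-!
# Cohomology of the `p`-th power map of the structure sheaf

* `smulAb_comp_frob`, `Hmap_frob_smul`: `H^i(φ)` is `p`-linear over the base;
* `bijective_of_cokernel`: if `φ` is a monomorphism of abelian sheaves with acyclic cokernel, then
  `H^i(φ)` is bijective;
* `subsingleton_cokernel_of_split`: if `φ` is a split mono with `H^i(φ)` surjective then `H^i(coker φ) = 0`.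
-/

set_option autoImplicit false
universe u

open CategoryTheory Limits AlgebraicGeometry TopologicalSpace Opposite Abelian

namespace K865.FrobCoh

section General

variable {C : Type u} [Category.{u} C] {J : GrothendieckTopology C}
  [HasSheafify J AddCommGrpCat.{u}] [HasExt.{u} (Sheaf J AddCommGrpCat.{u})]

/-- A monomorphism of abelian sheaves with acyclic cokernel induces bijections on cohomology. -/
theorem bijective_of_cokernel {F G : Sheaf J AddCommGrpCat.{u}} (φ : F ⟶ G) [Mono φ]
    (hB : ∀ i : ℕ, Subsingleton (Sheaf.H (cokernel φ) i)) (i : ℕ) :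
    Function.Bijective (Sheaf.H.map φ i) := by
  let S : ShortComplex (Sheaf J AddCommGrpCat.{u}) :=
    ShortComplex.mk φ (cokernel.π φ) (cokernel.condition φ)
  have hS : S.ShortExact :=
    { exact := ShortComplex.exact_of_g_is_cokernel S (cokernelIsCokernel φ)
      mono_f := inferInstanceAs (Mono φ)
      epi_g := inferInstanceAs (Epi (cokernel.π φ)) }
  constructor
  · cases i with
    | zero => exact Groth.Agent.Ega3B.HLes.ab_injective φ
    | succ n =>
      rw [injective_iff_map_eq_zero]
      intro x hx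
      obtain ⟨y, hy⟩ := (Groth.Agent.Ega3B.HLes.ab_exact₁ hS n x).1 hx
      have := hB n
      rw [← hy, Subsingleton.elim (α := Sheaf.H (cokernel φ) n) y 0, map_zero]
  · intro x
    have := hB i
    exact (Groth.Agent.Ega3B.HLes.ab_exact₂ hS i x).1
      (Subsingleton.elim (α := Sheaf.H (cokernel φ) i) _ _)

/-- A split monomorphism which is surjective on `H^i` has `H^i(coker) = 0`. -/
theorem subsingleton_cokernel_of_split {F G : Sheaf J AddCommGrpCat.{u}} (φ : F ⟶ G) (s : G ⟶ F)
    (hs : φ ≫ s = 𝟙 _) (i : ℕ) (hsurj : Function.Surjective (Sheaf.H.map φ i)) :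
    Subsingleton (Sheaf.H (cokernel φ) i) := by
  let σ : cokernel φ ⟶ G := cokernel.desc φ (𝟙 G - s ≫ φ) (by
    rw [Preadditive.comp_sub, Category.comp_id, reassoc_of% hs, sub_self])
  have hσ : σ ≫ cokernel.π φ = 𝟙 _ := by
    rw [← cancel_epi (cokernel.π φ), cokernel.π_desc_assoc, Preadditive.sub_comp, Category.id_comp,
      Category.assoc, cokernel.condition, comp_zero, sub_zero, Category.comp_id]
  refine subsingleton_of_forall_eq 0 fun x => ?_
  obtain ⟨y, hy⟩ := hsurj (Sheaf.H.map σ i x)
  have h1 : x = Sheaf.H.map (cokernel.π φ) i (Sheaf.H.map σ i x) := by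
    rw [← Sheaf.H.map_comp_apply, hσ, Sheaf.H.map_id_apply]
  rw [h1, ← hy, ← Sheaf.H.map_comp_apply, cokernel.condition]
  change ((Sheaf.functorH J i).map (0 : F ⟶ cokernel φ)).hom y = 0
  rw [Functor.map_zero]
  rfl

theorem Hmap_injective_of_split {F G : Sheaf J AddCommGrpCat.{u}} (φ : F ⟶ G) (s : G ⟶ F)
    (hs : φ ≫ s = 𝟙 _) (i : ℕ) : Function.Injective (Sheaf.H.map φ i) := by
  intro x y h
  have := congrArg (Sheaf.H.map s i) h
  rwa [← Sheaf.H.map_comp_apply, ← Sheaf.H.map_comp_apply, hs, Sheaf.H.map_id_apply,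
    Sheaf.H.map_id_apply] at this

end General

section Scheme

variable {X : Scheme.{u}} {p : ℕ}
  (φ : Coh.toAb (Coh.structureModule X) ⟶ Coh.toAb (Coh.structureModule X))
  (hφ : ∀ (U : X.Opens) (t : Γ(X, U)), φ.hom.app (op U) t = t ^ p)

include hφ in
theorem smulAb_comp_frob (r : Coh.Γtop X) :
    Coh.smulAb (Coh.structureModule X) r ≫ φ = φ ≫ Coh.smulAb (Coh.structureModule X) (r ^ p) := by
  ext U m
  change φ.hom.app U ((Coh.smulAb (Coh.structureModule X) r).hom.app U m) =
    (Coh.smulAb (Coh.structureModule X) (r ^ p)).hom.app U (φ.hom.app U m)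
  rw [Coh.smulAb_app, Coh.smulAb_app, map_pow]
  let a : Γ(X, U.unop) := Coh.resTop X U r
  let b : Γ(X, U.unop) := m
  have h1 : φ.hom.app U (a * b : Γ(X, U.unop)) = (a ^ p * b ^ p : Γ(X, U.unop)) :=
    (hφ U.unop (a * b)).trans (mul_pow a b p)
  have h2 : φ.hom.app U b = (b ^ p : Γ(X, U.unop)) := hφ U.unop b
  refine Eq.trans h1 ?_
  exact congrArg (fun z : Γ(X, U.unop) => a ^ p * z) h2.symm

include hφ in
theorem Hmap_frob_smul_top (r : Coh.Γtop X) (i : ℕ) (x : Coh.HH X (Coh.structureModule X) i) :
    Sheaf.H.map φ i (r • x : Coh.HH X (Coh.structureModule X) i) =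
      (r ^ p • (Sheaf.H.map φ i x : Coh.HH X (Coh.structureModule X) i) :
        Coh.HH X (Coh.structureModule X) i) := by
  change Sheaf.H.map φ i (Sheaf.H.map (Coh.smulAb _ r) i x) =
    Sheaf.H.map (Coh.smulAb _ (r ^ p)) i (Sheaf.H.map φ i x)
  rw [← Sheaf.H.map_comp_apply, ← Sheaf.H.map_comp_apply, smulAb_comp_frob φ hφ]

include hφ in
theorem Hmap_frob_smul (k : Type u) [CommRing k] [X.Over (Spec (CommRingCat.of k))] (a : k) (i : ℕ)
    (x : Coh.HH X (Coh.structureModule X) i) :
    Sheaf.H.map φ i (a • x : Coh.HH X (Coh.structureModule X) i) =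
      (a ^ p • (Sheaf.H.map φ i x : Coh.HH X (Coh.structureModule X) i) :
        Coh.HH X (Coh.structureModule X) i) := by
  have h := Hmap_frob_smul_top φ hφ (Coh.toGlobal (X ↘ Spec (CommRingCat.of k)) a) i x
  rw [← map_pow] at h
  exact h

include hφ in
/-- On a proper scheme over a perfect field of characteristic `p`, if the Frobenius is injective on
`H^i(X, O_X)` then it is bijective. -/
theorem Hmap_frob_surjective [Fact p.Prime] (k : Type u) [Field k] [CharP k p] [PerfectField k]
    [X.Over (Spec (CommRingCat.of k))] (i : ℕ)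
    (hfin : Module.Finite k (Coh.HH X (Coh.structureModule X) i))
    (hinj : Function.Injective (Sheaf.H.map φ i)) : Function.Surjective (Sheaf.H.map φ i) := by
  have : ExpChar k p := ExpChar.prime Fact.out
  have : PerfectRing k p := PerfectField.toPerfectRing p
  exact K865.SemiLin.surjective_of_semilinear (V := Coh.HH X (Coh.structureModule X) i)
    (W := Coh.HH X (Coh.structureModule X) i)
    (frobeniusEquiv k p) (Sheaf.H.map φ i) hinj (fun a x => by
      rw [frobeniusEquiv_apply, frobenius_def]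
      exact Hmap_frob_smul φ hφ k a i x) rfl

end Scheme

end K865.FrobCoh
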