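import Groth.Agent.FrobSch.K865.FrobLineH
import Groth.Agent.Ega2.TensPow

/-!
# Iterating the Frobenius map of an invertible module

On a Frobenius split scheme `H^i(X, L)` injects into `H^i(X, L^{⊗ p^e})` for every `e`
(`subsingleton_of_iterPow`, `iterPowIso`, `inverse_iterPow`).
-/

set_option autoImplicit false
universe u

open CategoryTheory AlgebraicGeometry TopologicalSpace Opposite
open Groth.Agent.Ega2 Groth.Agent.Ega2.TensPow

namespace K865.FrobLine

variable {X : Scheme.{u}} {p : ℕ}

/-- The `e`-fold iterate of `M ↦ M^{⊗ p}`. -/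
noncomputable def iterPow (L : X.Modules) (p : ℕ) : ℕ → X.Modules
  | 0 => L
  | e + 1 => CohB1.tensorPow (iterPow L p e) p

theorem isInvertible_iterPow {L : X.Modules} (hL : PicF.IsInvertible L) (e : ℕ) :
    PicF.IsInvertible (iterPow L p e) := by
  induction e with
  | zero => exact hL
  | succ e ih => exact isInvertible_tensorPow ih p

/-- `iterPow L p e = L^{⊗ p ^ e}`. -/
noncomputable def iterPowIso (L : X.Modules) (p : ℕ) :
    (e : ℕ) → (iterPow L p e ≅ CohB1.tensorPow L (p ^ e))
  | 0 => (powOne L).symm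
  | e + 1 => powIso (iterPowIso L p e) p ≪≫ powMul L (p ^ e) p ≪≫ powCongr L (pow_succ p e).symm

/-- Powers of the structure module are trivial. -/
noncomputable def powUnit (X : Scheme.{u}) :
    (n : ℕ) → (CohB1.tensorPow (Coh.structureModule X) n ≅ Coh.structureModule X)
  | 0 => Iso.refl _
  | n + 1 => Tens.mapTIso (powUnit X n) (Iso.refl _) ≪≫ Tens.lunit _

theorem inverse_iterPow {L L' : X.Modules} (h : Nonempty (CohB1.tensorMod L' L ≅ Coh.structureModule X))
    (e : ℕ) :
    Nonempty (CohB1.tensorMod (iterPow L' p e) (CohB1.tensorPow L (p ^ e)) ≅ Coh.structureModule X) := by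
  obtain ⟨ε⟩ := h
  exact ⟨Tens.mapTIso (iterPowIso L' p e) (Iso.refl _) ≪≫ (powTensor L' L (p ^ e)).symm ≪≫
    powIso ε (p ^ e) ≪≫ powUnit X (p ^ e)⟩

theorem subsingleton_of_iterPow
    (φ s : Coh.toAb (Coh.structureModule X) ⟶ Coh.toAb (Coh.structureModule X))
    (hφ : ∀ (U : X.Opens) (t : Γ(X, U)), φ.hom.app (op U) t = t ^ p) (hs : φ ≫ s = 𝟙 _)
    (hlin : ∀ (U : X.Opens) (a b : Γ(X, U)),
      s.hom.app (op U) (a ^ p * b) = a * @id Γ(X, U) (s.hom.app (op U) b))
    {L : X.Modules} (hL : PicF.IsInvertible L) (i e : ℕ)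
    (h : Subsingleton (Coh.HH X (iterPow L p e) i)) : Subsingleton (Coh.HH X L i) := by
  induction e with
  | zero => exact h
  | succ e ih =>
    have h' : Subsingleton (Coh.HH X (CohB1.tensorPow (iterPow L p e) p) i) := h
    exact ih (@Function.Injective.subsingleton _ _ _
      (Hmap_Fr_injective φ s hφ (isInvertible_iterPow hL e) hs hlin i) h')

end K865.FrobLine
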