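import Groth.Prelude.Def_Coh
import Groth.Agent.Smoothlim.PowSec

/-!
# The Frobenius map `L → L^{⊗ p}` of an invertible module and its splitting

For an invertible `L` on a scheme with a `p`-th power map `φ : O_X → O_X` of abelian sheaves, `Fr : L → L^{⊗ p}`
is the map `m ↦ m^{⊗ p}` of abelian sheaves; a Frobenius splitting `s` of `O_X` gives a retraction
`Sp : L^{⊗ p} → L` (`exists_frob_split`).
-/

set_option autoImplicit false
universe u

open CategoryTheory AlgebraicGeometry TopologicalSpace Opposite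

namespace K865.FrobLine

open Groth.Agent.Ega4dA.GenSec Groth.Agent.Smoothlim.PowSec

variable {X : Scheme.{u}} {p : ℕ}
  (φ s : Coh.toAb (Coh.structureModule X) ⟶ Coh.toAb (Coh.structureModule X))
  (hφ : ∀ (U : X.Opens) (t : Γ(X, U)), φ.hom.app (op U) t = t ^ p)

include φ hφ in
/-- The `p`-th power map is additive on sections. -/
theorem add_pow (U : X.Opens) (a b : Γ(X, U)) : (a + b) ^ p = a ^ p + b ^ p := by
  rw [← hφ U (a + b), ← hφ U a, ← hφ U b]
  exact map_add (φ.hom.app (op U)).hom a b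

/-- Every point of `U` has a smaller neighbourhood on which `L` has a generator. -/
theorem exists_gen {L : X.Modules} (hL : PicF.IsInvertible L) (U : X.Opens) (x : X) (hx : x ∈ U) :
    ∃ (V : X.Opens) (_ : V ≤ U), x ∈ V ∧ ∃ e : Γ(L, V), IsGen L V e := by
  obtain ⟨W, hxW, e, he⟩ := isInvertible_iff.1 hL x
  exact ⟨W ⊓ U, inf_le_right, ⟨hxW, hx⟩, res L inf_le_left e, he.mono inf_le_left⟩

include φ hφ in
theorem powSec_add {L : X.Modules} (hL : PicF.IsInvertible L) (U : X.Opens) (m n : Γ(L, U)) :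
    powSec (m + n) p = powSec m p + powSec n p := by
  refine eq_of_locally _ fun x hx => ?_
  obtain ⟨V, hV, hxV, e, he⟩ := exists_gen hL U x hx
  refine ⟨V, hV, hxV, ?_⟩
  obtain ⟨a, ha⟩ := he.exists_eq' (res L hV m)
  obtain ⟨b, hb⟩ := he.exists_eq' (res L hV n)
  rw [res_add, res_powSec, res_powSec, res_powSec, res_add, ← ha, ← hb, ← add_smul, powSec_smul,
    powSec_smul, powSec_smul, add_pow φ hφ, add_smul]

/-- The Frobenius map `L → L^{⊗ p}`. -/
noncomputable def Fr {L : X.Modules} (hL : PicF.IsInvertible L) :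
    Coh.toAb L ⟶ Coh.toAb (CohB1.tensorPow L p) where
  hom :=
    { app := fun U => AddCommGrpCat.ofHom
        { toFun := fun m : Γ(L, U.unop) => (powSec m p : Γ(CohB1.tensorPow L p, U.unop))
          map_zero' := by
            have h := powSec_add φ hφ hL U.unop 0 0
            rw [add_zero] at h
            exact left_eq_add.mp h
          map_add' := fun m n => powSec_add φ hφ hL U.unop m n }
      naturality := fun U V f => by
        ext m
        exact (res_powSec (leOfHom f.unop) m p).symm }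

theorem Fr_app {L : X.Modules} (hL : PicF.IsInvertible L) (U : X.Opens) (m : Γ(L, U)) :
    (Fr φ hφ hL).hom.app (op U) m = (powSec m p : Γ(CohB1.tensorPow L p, U)) := rfl

section split

variable (hlin : ∀ (U : X.Opens) (a b : Γ(X, U)),
      s.hom.app (op U) (a ^ p * b) = a * @id Γ(X, U) (s.hom.app (op U) b))

/-- `s` on sections. -/
noncomputable def sU (U : X.Opens) (b : Γ(X, U)) : Γ(X, U) := s.hom.app (op U) b

theorem sU_add (U : X.Opens) (a b : Γ(X, U)) : sU s U (a + b) = sU s U a + sU s U b :=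
  map_add (s.hom.app (op U)).hom a b

theorem resO_sU {U V : X.Opens} (h : V ≤ U) (a : Γ(X, U)) :
    resO X h (sU s U a) = sU s V (resO X h a) := by
  have := s.hom.naturality (homOfLE h).op
  exact (congr($this a)).symm

include hlin in
theorem sU_lin (U : X.Opens) (a b : Γ(X, U)) : sU s U (a ^ p * b) = a * sU s U b := hlin U a b

/-- The local description of the retraction. -/
def IsSp {L : X.Modules} (U : X.Opens) (σ : Γ(CohB1.tensorPow L p, U)) (τ : Γ(L, U)) : Prop :=
  ∀ (V : X.Opens) (h : V ≤ U) (e : Γ(L, V)), IsGen L V e → ∀ b : Γ(X, V),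
    b • powSec e p = res (CohB1.tensorPow L p) h σ → sU s V b • e = res L h τ

theorem IsSp.res {L : X.Modules} {U V : X.Opens} (h : V ≤ U) {σ : Γ(CohB1.tensorPow L p, U)}
    {τ : Γ(L, U)} (hτ : IsSp s U σ τ) :
    IsSp s V (Groth.Agent.Ega4dA.GenSec.res (CohB1.tensorPow L p) h σ) (Groth.Agent.Ega4dA.GenSec.res L h τ) := by
  intro W hW e he b hb
  rw [res_res] at hb ⊢
  exact hτ W (hW.trans h) e he b hb

theorem IsSp.unique {L : X.Modules} (hL : PicF.IsInvertible L) {U : X.Opens}
    {σ : Γ(CohB1.tensorPow L p, U)} {τ τ' : Γ(L, U)} (h : IsSp s U σ τ) (h' : IsSp s U σ τ') :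
    τ = τ' := by
  refine eq_of_locally _ fun x hx => ?_
  obtain ⟨V, hV, hxV, e, he⟩ := exists_gen hL U x hx
  obtain ⟨b, hb⟩ := (isGen_powSec he p).exists_eq' (Groth.Agent.Ega4dA.GenSec.res _ hV σ)
  exact ⟨V, hV, hxV, by rw [← h V hV e he b hb, ← h' V hV e he b hb]⟩

theorem IsSp.add {L : X.Modules} {U : X.Opens}
    {σ σ' : Γ(CohB1.tensorPow L p, U)} {τ τ' : Γ(L, U)} (h : IsSp s U σ τ) (h' : IsSp s U σ' τ') :
    IsSp s U (σ + σ') (τ + τ') := by
  intro V hV e he b hb
  obtain ⟨a, ha⟩ := (isGen_powSec he p).exists_eq' (Groth.Agent.Ega4dA.GenSec.res _ hV σ)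
  obtain ⟨a', ha'⟩ := (isGen_powSec he p).exists_eq' (Groth.Agent.Ega4dA.GenSec.res _ hV σ')
  have h1 : b = a + a' := by
    apply (isGen_powSec he p).injective'
    rw [hb, res_add, add_smul, ha, ha']
  rw [h1, sU_add, add_smul, res_add, h V hV e he a ha, h' V hV e he a' ha']

include hlin in
theorem isSp_of_gen {L : X.Modules} {U : X.Opens} {e : Γ(L, U)} (he : IsGen L U e) (b : Γ(X, U)) :
    IsSp s U (b • powSec e p) (sU s U b • e) := by
  intro V hV e' he' b' hb'
  obtain ⟨u, hu⟩ := he'.exists_eq' (Groth.Agent.Ega4dA.GenSec.res L hV e)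
  rw [res_smul, res_powSec, ← hu, powSec_smul, smul_smul] at hb'
  have h1 : b' = resO X hV b * u ^ p := (isGen_powSec he' p).injective' hb'
  rw [res_smul, ← hu, smul_smul, h1, resO_sU, mul_comm (resO X hV b), sU_lin s hlin, mul_comm u]

include hlin in
theorem exists_isSp {L : X.Modules} (hL : PicF.IsInvertible L) (U : X.Opens)
    (σ : Γ(CohB1.tensorPow L p, U)) : ∃ τ : Γ(L, U), IsSp s U σ τ := by
  choose V hV hxV e he using fun x : U => exists_gen hL U x.1 x.2
  choose b hb using fun x : U => (isGen_powSec (he x) p).exists_eq'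
    (Groth.Agent.Ega4dA.GenSec.res (CohB1.tensorPow L p) (hV x) σ)
  have hsp : ∀ x : U, IsSp s (V x) (Groth.Agent.Ega4dA.GenSec.res (CohB1.tensorPow L p) (hV x) σ)
      (sU s (V x) (b x) • e x) := fun x => by
    rw [← hb x]
    exact isSp_of_gen s hlin (he x) (b x)
  have hcov : U ≤ iSup V := fun x hx => Opens.mem_iSup.mpr ⟨⟨x, hx⟩, hxV ⟨x, hx⟩⟩
  obtain ⟨τ, hτ⟩ := exists_glue L V hV hcov (fun x => sU s (V x) (b x) • e x) (by
    intro x y
    refine IsSp.unique s hL ((hsp x).res s inf_le_left) ?_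
    have := (hsp y).res s (inf_le_right : V x ⊓ V y ≤ V y)
    rw [res_res] at this ⊢
    exact this)
  refine ⟨τ, fun W hW e' he' b' hb' => ?_⟩
  refine eq_of_locally _ fun x hx => ?_
  refine ⟨W ⊓ V ⟨x, hW hx⟩, inf_le_left, ⟨hx, hxV ⟨x, hW hx⟩⟩, ?_⟩
  have h1 := hsp ⟨x, hW hx⟩ (W ⊓ V ⟨x, hW hx⟩) inf_le_right
    (Groth.Agent.Ega4dA.GenSec.res L inf_le_left e') (he'.mono inf_le_left) (resO X inf_le_left b') (by
      rw [← res_powSec, ← res_smul, hb', res_res, res_res])
  rw [res_smul, resO_sU, h1, ← hτ, res_res, res_res]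

/-- The value of the retraction. -/
noncomputable def spU {L : X.Modules} (hL : PicF.IsInvertible L) (U : X.Opens)
    (σ : Γ(CohB1.tensorPow L p, U)) : Γ(L, U) := (exists_isSp s hlin hL U σ).choose

theorem isSp_spU {L : X.Modules} (hL : PicF.IsInvertible L) (U : X.Opens)
    (σ : Γ(CohB1.tensorPow L p, U)) : IsSp s U σ (spU s hlin hL U σ) :=
  (exists_isSp s hlin hL U σ).choose_spec

/-- The retraction `L^{⊗ p} → L`. -/
noncomputable def Sp {L : X.Modules} (hL : PicF.IsInvertible L) :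
    Coh.toAb (CohB1.tensorPow L p) ⟶ Coh.toAb L where
  hom :=
    { app := fun U => AddCommGrpCat.ofHom
        (AddMonoidHom.mk' (fun σ : Γ(CohB1.tensorPow L p, U.unop) => spU s hlin hL U.unop σ)
          (fun σ σ' => IsSp.unique s hL (isSp_spU s hlin hL _ _)
            ((isSp_spU s hlin hL _ _).add s (isSp_spU s hlin hL _ _))))
      naturality := fun U V f => by
        ext σ
        exact IsSp.unique s hL (isSp_spU s hlin hL _ _)
          ((isSp_spU s hlin hL _ _).res s (leOfHom f.unop)) }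

theorem Sp_app {L : X.Modules} (hL : PicF.IsInvertible L) (U : X.Opens)
    (σ : Γ(CohB1.tensorPow L p, U)) :
    (Sp s hlin hL).hom.app (op U) σ = (spU s hlin hL U σ : Γ(L, U)) := rfl

include hφ in
theorem Fr_comp_Sp {L : X.Modules} (hL : PicF.IsInvertible L) (hs : φ ≫ s = 𝟙 _) :
    Fr φ hφ hL ≫ Sp s hlin hL = 𝟙 _ := by
  ext U m
  change (spU s hlin hL U.unop (powSec m p) : Γ(L, U.unop)) = m
  refine IsSp.unique s hL (isSp_spU s hlin hL _ _) ?_
  intro V hV e he b hb
  obtain ⟨a, ha⟩ := he.exists_eq' (res L hV m)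
  have h1 : b = a ^ p := by
    apply (isGen_powSec he p).injective'
    rw [hb, res_powSec, ← powSec_smul, ha]
  have h2 : sU s V (a ^ p) = a := by
    rw [← hφ V a]
    have := congrArg (fun t => t.hom.app (op V)) hs
    exact congr($this a)
  rw [h1, h2, ha]

end split

end K865.FrobLine
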