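import Groth.Agent.FrobSch.K865.FrobLine
import Groth.Agent.FrobSch.K865.FrobCoh

/-!
# Cohomology of the Frobenius map `L → L^{⊗ p}`

`Fr` is `p`-linear on cohomology (`Hmap_Fr_smul`), injective when `X` is Frobenius split
(`Hmap_Fr_injective`), and so `dim H^i(L) ≤ dim H^i(L^{⊗ p})` (`finrank_le`).
-/

set_option autoImplicit false
universe u

open CategoryTheory AlgebraicGeometry TopologicalSpace Opposite

namespace K865.FrobLine

open Groth.Agent.Ega4dA.GenSec Groth.Agent.Smoothlim.PowSec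

theorem isInvertible_tensorPow {X : Scheme.{u}} {L : X.Modules} (hL : PicF.IsInvertible L) (n : ℕ) :
    PicF.IsInvertible (CohB1.tensorPow L n) := by
  rw [isInvertible_iff] at hL ⊢
  intro x
  obtain ⟨U, hx, e, he⟩ := hL x
  exact ⟨U, hx, powSec e n, isGen_powSec he n⟩

variable {X : Scheme.{u}} {p : ℕ}
  (φ s : Coh.toAb (Coh.structureModule X) ⟶ Coh.toAb (Coh.structureModule X))
  (hφ : ∀ (U : X.Opens) (t : Γ(X, U)), φ.hom.app (op U) t = t ^ p)

theorem smulAb_comp_Fr {L : X.Modules} (hL : PicF.IsInvertible L) (r : Coh.Γtop X) :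
    Coh.smulAb L r ≫ Fr φ hφ hL = Fr φ hφ hL ≫ Coh.smulAb (CohB1.tensorPow L p) (r ^ p) := by
  ext U m
  change (Fr φ hφ hL).hom.app U ((Coh.smulAb L r).hom.app U m) =
    (Coh.smulAb (CohB1.tensorPow L p) (r ^ p)).hom.app U ((Fr φ hφ hL).hom.app U m)
  rw [Coh.smulAb_app, Coh.smulAb_app, map_pow]
  exact powSec_smul (X := X) (L := L) (U := U.unop) (Coh.resTop X U r) m p

section

variable {C : Type u} [Category.{u} C] {J : GrothendieckTopology C}
  [HasSheafify J AddCommGrpCat.{u}] [HasExt.{u} (Sheaf J AddCommGrpCat.{u})]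

theorem Hmap_comm {F G : Sheaf J AddCommGrpCat.{u}} (f : F ⟶ G) (a : F ⟶ F) (b : G ⟶ G)
    (h : a ≫ f = f ≫ b) (i : ℕ) (x : Sheaf.H F i) :
    Sheaf.H.map f i (Sheaf.H.map a i x) = Sheaf.H.map b i (Sheaf.H.map f i x) := by
  rw [← Sheaf.H.map_comp_apply, ← Sheaf.H.map_comp_apply, h]

end

theorem Hmap_Fr_smul_top {L : X.Modules} (hL : PicF.IsInvertible L) (r : Coh.Γtop X) (i : ℕ)
    (x : Coh.HH X L i) :
    Sheaf.H.map (Fr φ hφ hL) i (r • x : Coh.HH X L i) =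
      (r ^ p • (Sheaf.H.map (Fr φ hφ hL) i x : Coh.HH X (CohB1.tensorPow L p) i) :
        Coh.HH X (CohB1.tensorPow L p) i) :=
  Hmap_comm (Fr φ hφ hL) (Coh.smulAb L r) (Coh.smulAb (CohB1.tensorPow L p) (r ^ p))
    (smulAb_comp_Fr φ hφ hL r) i x

theorem Hmap_Fr_smul {L : X.Modules} (hL : PicF.IsInvertible L) (k : Type u) [CommRing k]
    [X.Over (Spec (CommRingCat.of k))] (a : k) (i : ℕ) (x : Coh.HH X L i) :
    Sheaf.H.map (Fr φ hφ hL) i (a • x : Coh.HH X L i) =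
      (a ^ p • (Sheaf.H.map (Fr φ hφ hL) i x : Coh.HH X (CohB1.tensorPow L p) i) :
        Coh.HH X (CohB1.tensorPow L p) i) := by
  have h := Hmap_Fr_smul_top φ hφ hL (Coh.toGlobal (X ↘ Spec (CommRingCat.of k)) a) i x
  rw [← map_pow] at h
  exact h

theorem Hmap_Fr_injective {L : X.Modules} (hL : PicF.IsInvertible L) (hs : φ ≫ s = 𝟙 _)
    (hlin : ∀ (U : X.Opens) (a b : Γ(X, U)),
      s.hom.app (op U) (a ^ p * b) = a * @id Γ(X, U) (s.hom.app (op U) b)) (i : ℕ) :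
    Function.Injective (Sheaf.H.map (Fr φ hφ hL) i) :=
  K865.FrobCoh.Hmap_injective_of_split (Fr φ hφ hL) (Sp s hlin hL) (Fr_comp_Sp φ s hφ hlin hL hs) i

theorem finrank_le [Fact p.Prime] (k : Type u) [Field k] [CharP k p] [PerfectRing k p]
    [X.Over (Spec (CommRingCat.of k))] {L : X.Modules} (hL : PicF.IsInvertible L)
    (hs : φ ≫ s = 𝟙 _) (hφ : ∀ (U : X.Opens) (t : Γ(X, U)), φ.hom.app (op U) t = t ^ p)
    (hlin : ∀ (U : X.Opens) (a b : Γ(X, U)),
      s.hom.app (op U) (a ^ p * b) = a * @id Γ(X, U) (s.hom.app (op U) b)) (i : ℕ)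
    (hfin : Module.Finite k (Coh.HH X (CohB1.tensorPow L p) i)) :
    Module.finrank k (Coh.HH X L i) ≤ Module.finrank k (Coh.HH X (CohB1.tensorPow L p) i) :=
  K865.SemiLin.finrank_le_of_semilinear (V := Coh.HH X L i) (W := Coh.HH X (CohB1.tensorPow L p) i)
    (frobeniusEquiv k p) (Sheaf.H.map (Fr φ hφ hL) i)
    (Hmap_Fr_injective φ s hφ hL hs hlin i) (fun a x => by
      rw [frobeniusEquiv_apply, frobenius_def]
      exact Hmap_Fr_smul φ hφ hL k a i x)

end K865.FrobLine
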