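import Groth.Agent.Sga67.QLinear
import Mathlib.RingTheory.Artinian.Module

/-!
# Nilpotent semilinear endomorphisms

A `q`-linear endomorphism of a finite dimensional vector space over a separably closed field in which `q = 0`,
without nonzero fixed vectors, is nilpotent (`exists_iterate_eq_zero`).
-/

set_option autoImplicit false
universe u v

namespace K865.NilSemi

open Groth.Agent.Sga67.QLinear

variable {k : Type u} [Field k] {V : Type v} [AddCommGroup V] [Module k V]

/-- The span of the image of `φ ^ n`. -/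
def im (k : Type u) [Field k] [Module k V] (φ : V →+ V) (n : ℕ) : Submodule k V :=
  Submodule.span k (Set.range (φ^[n]))

theorem im_antitone (φ : V →+ V) : Antitone (im k φ) := by
  refine antitone_nat_of_succ_le fun n => Submodule.span_mono ?_
  rintro _ ⟨v, rfl⟩
  exact ⟨φ v, by rw [Function.iterate_succ_apply]⟩

theorem map_mem_im (q : ℕ) (φ : V →+ V) (hφ : ∀ (c : k) (v : V), φ (c • v) = c ^ q • φ v) (n : ℕ)
    {w : V} (hw : w ∈ im k φ n) : φ w ∈ im k φ (n + 1) := by
  induction hw using Submodule.span_induction with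
  | mem x hx =>
    obtain ⟨v, rfl⟩ := hx
    exact Submodule.subset_span ⟨v, by rw [Function.iterate_succ_apply']⟩
  | zero => rw [map_zero]; exact zero_mem _
  | add x y _ _ hx hy => rw [map_add]; exact add_mem hx hy
  | smul a x _ hx => rw [hφ]; exact Submodule.smul_mem _ _ hx

theorem exists_iterate_eq_zero [IsSepClosed k] [FiniteDimensional k V] (q : ℕ) (hq : 1 < q)
    (hqk : (q : k) = 0) (φ : V →+ V) (hφ : ∀ (c : k) (v : V), φ (c • v) = c ^ q • φ v)
    (hfix : ∀ v, φ v = v → v = 0) : ∃ n : ℕ, 0 < n ∧ ∀ v, φ^[n] v = 0 := by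
  obtain ⟨n, hn⟩ := IsArtinian.monotone_stabilizes (R := k) (M := V)
    ⟨fun n => OrderDual.toDual (im k φ n), fun _ _ h => im_antitone φ h⟩
  have hn' : im k φ n = im k φ (n + 1) := hn (n + 1) (Nat.le_succ n)
  let W := im k φ n
  let ψ : W →+ W :=
    { toFun := fun w => ⟨φ w.1, hn'.ge (map_mem_im q φ hφ n w.2)⟩
      map_zero' := by ext; exact map_zero φ
      map_add' := fun a b => by ext; exact map_add φ a.1 b.1 }
  have hψ : ∀ (c : k) (w : W), ψ (c • w) = c ^ q • ψ w := fun c w => by
    ext; exact hφ c w.1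
  have hspan : Submodule.span k (Set.range ψ) = ⊤ := by
    apply Submodule.map_injective_of_injective W.injective_subtype
    rw [Submodule.map_span, Submodule.map_top, Submodule.range_subtype]
    refine le_antisymm ?_ ?_
    · rw [Submodule.span_le]
      rintro _ ⟨_, ⟨w, rfl⟩, rfl⟩
      exact (ψ w).2
    · change im k φ n ≤ _
      rw [hn']
      refine Submodule.span_le.2 ?_
      rintro _ ⟨v, rfl⟩
      refine Submodule.subset_span ⟨ψ ⟨φ^[n] v, Submodule.subset_span ⟨v, rfl⟩⟩, ⟨_, rfl⟩, ?_⟩
      rw [Function.iterate_succ_apply']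
      rfl
  have hinj : Function.Injective ψ := injective_of_span_range q (by omega) ψ hψ hspan
  have hsub : Subsingleton W := by
    by_contra hne
    rw [not_subsingleton_iff_nontrivial] at hne
    obtain ⟨w, hw0, hw⟩ := exists_nonzero_fixed q hq hqk ψ hψ hinj
    exact hw0 (Subtype.ext (hfix w.1 (congrArg Subtype.val hw)))
  refine ⟨n + 1, Nat.succ_pos n, fun v => ?_⟩
  have h1 : φ^[n] v ∈ W := Submodule.subset_span ⟨v, rfl⟩
  have h2 : φ^[n] v = 0 := congrArg Subtype.val (Subsingleton.elim (⟨_, h1⟩ : W) 0)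
  rw [Function.iterate_succ_apply', h2, map_zero]

end K865.NilSemi
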