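import Groth.Agent.Etcore.FEtH1
import Groth.Agent.Lefpen.H416.SimplyConn
import Groth.Agent.EtpbcA.FLCExact
import Groth.Agent.Etbase.GabSec
import Groth.Agent.Etbase.ExtLocal

/-!
# First étale cohomology of a simply connected scheme

`X` connected, locally Noetherian, all of whose finite étale covers are split.

* `sect_surjective`: a surjection of finite locally constant sheaves is surjective on global sections;
* `ext_one_eq_zero`: `Ext¹(ℤ, G) = 0` for `G` finite locally constant, killed by some `n > 0`.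
-/

set_option autoImplicit false
universe u

open CategoryTheory CategoryTheory.Limits AlgebraicGeometry Opposite CategoryTheory.Abelian

namespace K865.SimplyH1

open Groth.Agent Groth.Agent.Lefpen.H416.SimplyConn Groth.Agent.EtpbcA Groth.Agent.Etcore
  Groth.Agent.Etcore.FEtH1 Groth.Agent.Etcore.Yext

variable {X : Scheme.{u}} [ConnectedSpace X] [IsLocallyNoetherian X]

/-- A surjection of finite locally constant sheaves is surjective on global sections. -/
theorem sect_surjective (hX : ∀ Y : FEt.Cat X, Pi1.IsSplit Y) {E G : EtCoh.Ab X}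
    (hE : EtCoh.IsFiniteLocallyConstant E) (hG : EtCoh.IsFiniteLocallyConstant G) (g : E ⟶ G)
    [Epi g] (s : EtCoh.sect G (EtCoh.top X)) :
    ∃ t : EtCoh.sect E (EtCoh.top X), g.hom.app (op (EtCoh.top X)) t = s := by
  obtain ⟨M, _, _, φ, hφ⟩ := exists_const hX E hE
  obtain ⟨N, _, _, ψ, hψ⟩ := exists_const hX G hG
  obtain ⟨x⟩ := (inferInstance : Nonempty X)
  obtain ⟨S, hS, hl⟩ := Etbase.ExtLocal.exists_lift_of_epi g (U := EtCoh.top X) s
  obtain ⟨V, k, hk, v, -⟩ := (Germ.mem_iff S).1 hS x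
  obtain ⟨t, ht⟩ := hl V k hk
  obtain ⟨m, W, l, w, -, e⟩ := exists_local hφ (U := V) v t
  obtain ⟨a, ha⟩ := (bijective_of_isConstVia hψ).2 s
  obtain ⟨b, hb⟩ := (bijective_of_isConstVia hψ).2 (g.hom.app (op (EtCoh.top X)) (φ m))
  have h1 : Germ.res G (toTop W) (g.hom.app (op (EtCoh.top X)) (φ m)) =
      Germ.res G (toTop W) s := by
    have e1 : Germ.res G (toTop W) (g.hom.app (op (EtCoh.top X)) (φ m)) =
        g.hom.app (op W) (Germ.res E (toTop W) (φ m)) :=
      (ConcreteCategory.congr_hom (g.hom.naturality (toTop W).op) (φ m)).symm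
    have e2 : g.hom.app (op W) (Germ.res E l t) = Germ.res G l (g.hom.app (op V) t) :=
      ConcreteCategory.congr_hom (g.hom.naturality l.op) t
    have ht' : g.hom.app (op V) t = Germ.res G k s := ht
    rw [e1, ← e, e2, ht', ← Germ.res_comp, hom_top_ext (toTop W) (l ≫ k)]
  have h2 : a = b := by
    refine hψ.injective (toTop W) w ?_
    rw [ha, hb, h1]
  exact ⟨φ m, by rw [← hb, ← h2, ha]⟩

/-- **`H¹` of a finite locally constant sheaf on a simply connected scheme vanishes.** -/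
theorem ext_one_eq_zero (hX : ∀ Y : FEt.Cat X, Pi1.IsSplit Y) {G : EtCoh.Ab X}
    (hG : EtCoh.IsFiniteLocallyConstant G) (n : ℕ) (hn : 0 < n) (hk : n • 𝟙 G = 0)
    (e : Ext.{u + 1} (EtCoh.const X ℤ) G 1) : e = 0 := by
  obtain ⟨wq, hS⟩ := const_shortExact X n hn
  have : NeZero n := ⟨hn.ne'⟩
  have kill : (Ext.mk₀ (n • 𝟙 (EtCoh.const X ℤ))).comp e (zero_add 1) = 0 := by
    have e1 : (Ext.mk₀ (n • 𝟙 (EtCoh.const X ℤ))).comp e (zero_add 1) =
        e.comp (Ext.mk₀ (n • 𝟙 G)) (add_zero 1) := by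
      have a1 : Ext.mk₀ (n • 𝟙 (EtCoh.const X ℤ)) = n • Ext.mk₀ (𝟙 (EtCoh.const X ℤ)) :=
        map_nsmul (Ext.addEquiv₀ (X := EtCoh.const X ℤ) (Y := EtCoh.const X ℤ)).symm n (𝟙 _)
      have a2 : Ext.mk₀ (n • 𝟙 G) = n • Ext.mk₀ (𝟙 G) :=
        map_nsmul (Ext.addEquiv₀ (X := G) (Y := G)).symm n (𝟙 G)
      have b1 : (n • Ext.mk₀ (𝟙 (EtCoh.const X ℤ))).comp e (zero_add 1) =
          n • ((Ext.mk₀ (𝟙 (EtCoh.const X ℤ))).comp e (zero_add 1)) :=
        map_nsmul ((Ext.bilinearComp (EtCoh.const X ℤ) (EtCoh.const X ℤ) G 0 1 1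
          (zero_add 1)).flip e) n (Ext.mk₀ (𝟙 _))
      have b2 : e.comp (n • Ext.mk₀ (𝟙 G)) (add_zero 1) = n • (e.comp (Ext.mk₀ (𝟙 G)) (add_zero 1)) :=
        map_nsmul ((Ext.bilinearComp (EtCoh.const X ℤ) G G 1 0 1 (add_zero 1)) e) n (Ext.mk₀ (𝟙 G))
      rw [a1, a2, b1, b2, Ext.mk₀_id_comp, Ext.comp_mk₀_id]
    rw [e1, hk, Ext.mk₀_zero, Ext.comp_zero]
  obtain ⟨y, rfl⟩ := Ext.contravariant_sequence_exact₂ hS G e kill
  obtain ⟨E, i, q, w, hE, rfl⟩ := exists_extClass y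
  have h3 : EtCoh.IsFiniteLocallyConstant (EtCoh.const X (ZMod n)) :=
    Etrest.ConstBasic.isFiniteLocallyConstant_const X (ZMod n)
  have h2 : EtCoh.IsFiniteLocallyConstant E := FLCExact.flc_extension hE hG h3
  have := hE.epi_g
  obtain ⟨t, ht⟩ := sect_surjective hX h2 h3 q (Etbase.GabSec.ev (zq X n))
  obtain ⟨z, hz⟩ := Etbase.GabSec.ev_surjective t
  have hzq : z ≫ q = zq X n := by
    apply Etbase.GabSec.ev_injective
    rw [Etbase.GabSec.ev_comp, hz]
    exact ht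
  have h5 := Etbase.GabSec.ext_eq_zero_of_lift hE z
  have h6 : z ≫ (ShortComplex.mk i q w).g = zq X n := hzq
  rw [h6] at h5
  exact h5

end K865.SimplyH1
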