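import Groth.Agent.Sga4h.H913.GaZarTr2
import Groth.Agent.FrobSch.K865.SimplyH1
import Groth.Agent.FrobSch.K865.NilSemi
import Groth.Agent.FrobSch.K865.FrobCoh
import Groth.Agent.S0002
import Groth.Agent.CurvesC.UnitCoh
import Groth.Prelude.Def_W4c5isocrystsimpconnFrobH

/-!
# Frobenius on `H¹(X, O_X)` of a simply connected proper scheme is nilpotent

* `etCmp`: the additive comparison map `H^n(X, O_X) → H^n_et(X, G_a)`, bijective, compatible with Frobenius;
* `eq_zero_of_fixed`: no nonzero class of `H¹(X, O_X)` is fixed by Frobenius, if all finite étale covers split;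
* `exists_iterate_frobH`: nilpotency.
-/

set_option autoImplicit false
universe u

open CategoryTheory CategoryTheory.Limits AlgebraicGeometry Opposite CategoryTheory.Abelian

namespace K865.FrobNil

open Groth.Agent Groth.Agent.Cohder Groth.Agent.Cohder.GaScalar Groth.Agent.Etbase
  Groth.Agent.Etcore Groth.Agent.Sga4h.H913 Groth.Agent.Sga4h.H913.GaZarTr TopologicalSpace
open GaFun GaPull GaBC ASX Dict Groth.Agent.Pi1B

section Short

open scoped Groth.Agent.Etcore.EtInst Groth.Agent.Etbase.ZarEt530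
open Groth.Agent.Etcore.EtInst

variable {X : Scheme.{u}} {p : ℕ} [Fact p.Prime]

theorem c2_frob (hX : (p : Γ(X, ⊤)) = 0) (φ : GaZar.OX X ⟶ GaZar.OX X)
    (hφ : ∀ (U : X.Opens) (a : Γ(X, U)), φ.hom.app (op U) a = a ^ p) (n : ℕ)
    (x : ZarEt530.ZH ((ZarUlift.UL (Opens.grothendieckTopology X)).obj (GaZar.OX X)) n) :
    GaFin104.c2 X n (x.comp (Ext.mk₀ ((ZarUlift.UL (Opens.grothendieckTopology X)).map φ))
      (add_zero n)) = HHmap (phi hX) n (GaFin104.c2 X n x) := by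
  refine c2_nat φ (phi hX) (fun U s => ?_) n x
  have h : GaZar.sec X (φ.hom.app (op U) s) = GaZar.sec X s ^ p := hφ U s
  rw [fn_phi, h, map_pow]
  rfl

theorem eq_zero_of_fixed_et [ConnectedSpace X] [IsLocallyNoetherian X]
    (hπ : ∀ Y : FEt.Cat X, Pi1.IsSplit Y) (hX : (p : Γ(X, ⊤)) = 0)
    (x : HH X (EtCoh.Ga X) 1) (hx : HHmap (phi hX) 1 x = x) : x = 0 := by
  obtain ⟨w, hS⟩ := shortExact_const hX
  have h0 : x.comp (Ext.mk₀ (phi hX - 𝟙 _)) (add_zero 1) = 0 := by
    have := HHmap_sub_id (phi hX) 1 x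
    rw [hx, sub_self, HHmap_apply] at this
    exact this
  obtain ⟨v, hv⟩ := Ext.covariant_sequence_exact₂ (EtCoh.const X ℤ) hS x h0
  have : NeZero p := ⟨(Fact.out : p.Prime).ne_zero⟩
  have hk := FEtH1.killedBy_const X (ZMod p) p (fun m => by simp)
  rw [PrimeFilt.killedBy_iff] at hk
  have hv0 : v = 0 := K865.SimplyH1.ext_one_eq_zero hπ
    (Etrest.ConstBasic.isFiniteLocallyConstant_const X (ZMod p)) p (Fact.out : p.Prime).pos hk v
  rw [← hv, hv0, Ext.zero_comp]

end Short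

variable {X : Scheme.{u}} {p : ℕ} [Fact p.Prime]

theorem eq_zero_of_fixed [ConnectedSpace X] [IsLocallyNoetherian X]
    (hπ : ∀ Y : FEt.Cat X, Pi1.IsSplit Y) (hX : (p : Γ(X, ⊤)) = 0)
    (φ : Coh.toAb (Coh.structureModule X) ⟶ Coh.toAb (Coh.structureModule X))
    (hφ : ∀ (U : X.Opens) (a : Γ(X, U)), φ.hom.app (op U) a = a ^ p)
    (x : Coh.HH X (Coh.structureModule X) 1) (hx : Sheaf.H.map φ 1 x = x) : x = 0 := by
  have h1 : GaFin104.c1 X 1 (Sheaf.H.map φ 1 x) = (GaFin104.c1 X 1 x).comp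
      (Ext.mk₀ ((ZarUlift.UL (Opens.grothendieckTopology X)).map φ)) (add_zero 1) :=
    ZarUlift.hMap_naturality _ φ 1 x
  have h2 := c2_frob hX φ hφ 1 (GaFin104.c1 X 1 x)
  have h3 := eq_zero_of_fixed_et hπ hX (GaFin104.c2 X 1 (GaFin104.c1 X 1 x)) (by
    rw [← h2, ← h1, hx])
  have h4 : GaFin104.c1 X 1 x = 0 := (c2_bijective 1).1 (h3.trans (map_zero _).symm)
  exact (ZarUlift.hMap_bijective _ (GaZar.OX X) 1).1 (h4.trans (map_zero _).symm)

/-- **Frobenius is nilpotent on `H¹(X, O_X)` of a simply connected proper scheme.** -/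
theorem exists_iterate_frobH (k : Type u) [Field k] [IsAlgClosed k] [CharP k p]
    [X.Over (Spec (CommRingCat.of k))] [IsProper (X ↘ Spec (CommRingCat.of k))]
    [ConnectedSpace X] [FrobSch.IsCharP X p]
    (hπ : ∀ Y : FEt.Cat X, Pi1.IsSplit Y) :
    ∃ b : ℕ, 0 < b ∧ ∀ x : Coh.HH X (Coh.structureModule X) 1,
      (W4c5isocrystsimpconn.frobH X p 1)^[b] x = 0 := by
  have hN : IsLocallyNoetherian X :=
    LocallyOfFiniteType.isLocallyNoetherian (X ↘ Spec (CommRingCat.of k))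
  have hfin : Module.Finite k (Coh.HH X (Coh.structureModule X) 1) :=
    Groth.Agent.S0002.result k X _ (CurvesC.UnitCoh.isCoh_unit X) 1
  have hX : (p : Γ(X, ⊤)) = 0 := FrobSch.natCast_eq_zero_app X p ⊤
  exact K865.NilSemi.exists_iterate_eq_zero (k := k) p (Fact.out : p.Prime).one_lt
    (CharP.cast_eq_zero k p) (W4c5isocrystsimpconn.frobH X p 1)
    (fun c v => K865.FrobCoh.Hmap_frob_smul (W4c5isocrystsimpconn.frobAb X p)
      (fun U t => rfl) k c 1 v)
    (fun v hv => eq_zero_of_fixed hπ hX (W4c5isocrystsimpconn.frobAb X p) (fun U t => rfl) v hv)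

end K865.FrobNil
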