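import Groth.Agent.Ega3B.HLes
import Groth.Agent.Fga.UnitRestrict
import Groth.Agent.FrobSch.K865.FrobMod
import Groth.Prelude.Def_W4c5isocrystsimpconnFrobH

/-!
# Pull-back by the absolute Frobenius and abelian sheaves

* `uMap M : toAb M ⟶ toAb (F^* M)`, natural in `M`;
* `uMap_unit`: for `M = O_X` it is the `p`-th power map, under `F^* O_X ≅ O_X`.
-/

set_option autoImplicit false

universe u

open CategoryTheory CategoryTheory.Limits AlgebraicGeometry Opposite TopologicalSpace

namespace K865.FrobPull

open FrobSch Groth.Agent.Ega3B.HLes Groth.Agent.Fga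

variable {X : Scheme.{u}} (p : ℕ) [Fact p.Prime] [IsCharP X p]

/-- The map of abelian sheaves `M → F^* M`. -/
noncomputable def uMap (M : X.Modules) :
    Coh.toAb M ⟶ Coh.toAb ((Scheme.Modules.pullback (frob X p)).obj M) :=
  toAbMap ((Scheme.Modules.pullbackPushforwardAdjunction (frob X p)).unit.app M) ≫
    (K865.FrobMod.pushIso (p := p) _).hom

theorem pushIso_naturality {M N : X.Modules} (φ : M ⟶ N) :
    toAbMap ((Scheme.Modules.pushforward (frob X p)).map φ) ≫ (K865.FrobMod.pushIso (p := p) N).hom =
      (K865.FrobMod.pushIso (p := p) M).hom ≫ toAbMap φ := by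
  ext U m
  rfl

theorem uMap_naturality {M N : X.Modules} (φ : M ⟶ N) :
    uMap p M ≫ toAbMap ((Scheme.Modules.pullback (frob X p)).map φ) = toAbMap φ ≫ uMap p N := by
  have h := (Scheme.Modules.pullbackPushforwardAdjunction (frob X p)).unit.naturality φ
  have h' := congrArg (fun t => toAbMap t) h
  dsimp only [Functor.id_obj, Functor.comp_obj, Functor.id_map, Functor.comp_map] at h'
  rw [toAbMap_comp, toAbMap_comp] at h'
  rw [uMap, uMap, Category.assoc, ← pushIso_naturality, ← Category.assoc, ← Category.assoc]
  exact congrArg (fun t => t ≫ (K865.FrobMod.pushIso (p := p) _).hom) h'.symm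

theorem uMap_unit : uMap p (Coh.structureModule X) ≫ toAbMap (UnitRestrict.pullbackUnitHom (frob X p)) =
    W4c5isocrystsimpconn.frobAb X p := by
  have h := UnitRestrict.unit_pullbackUnitHom (frob X p)
  have h2 : UnitRestrict.unitToPush (frob X p) = ClSub.unitToPush (frob X p) := rfl
  rw [h2] at h
  rw [uMap, Category.assoc, ← pushIso_naturality, ← Category.assoc, ← toAbMap_comp, h]
  exact K865.FrobMod.unit_pushIso _ (fun U t => rfl)

end K865.FrobPull
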