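import Groth.Prelude.Def_Coh

/-!
# Cohomology of retracts
-/

set_option autoImplicit false

universe u

open CategoryTheory CategoryTheory.Limits AlgebraicGeometry Opposite TopologicalSpace

namespace K865.HHRetract

/-- cohomology of a retract of an acyclic module vanishes -/
theorem subsingleton_of_retract {X : Scheme.{u}} {M N : X.Modules} (a : M ⟶ N) (b : N ⟶ M)
    (h : a ≫ b = 𝟙 M) (i : ℕ) (hN : Subsingleton (Coh.HH X N i)) : Subsingleton (Coh.HH X M i) := by
  let F := SheafOfModules.toSheaf X.ringCatSheaf ⋙ Sheaf.functorH (Opens.grothendieckTopology X) i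
  have h1 : F.map a ≫ F.map b = 𝟙 (F.obj M) := by
    rw [← F.map_comp]
    exact (congrArg F.map h).trans (F.map_id M)
  have h2 : IsZero (F.obj N) := by
    rw [AddCommGrpCat.isZero_iff_subsingleton]
    exact hN
  have h3 : IsZero (F.obj M) := by
    rw [IsZero.iff_id_eq_zero, ← h1, h2.eq_of_tgt (F.map a) 0, zero_comp]
  exact AddCommGrpCat.isZero_iff_subsingleton.1 h3

end K865.HHRetract
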