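import Groth.Agent.FrobSch.K865.FrobPull
import Groth.Agent.Dcoh.FinLocFree
import Groth.Agent.Dcoh.ResFree
import Groth.Agent.Krr.H496.PullK0

/-!
# Frobenius pull-backs of iterated extensions of `O_X`

`main`: if the `b`-th power of Frobenius is zero on `H¹(X, O_X)`, the `b (r - 1)`-fold Frobenius pull-back of an
`r`-fold iterated extension of `O_X` is free.
-/

set_option autoImplicit false

universe u

open CategoryTheory CategoryTheory.Limits AlgebraicGeometry Opposite TopologicalSpace

namespace K865.IterFree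

open FrobSch Groth.Agent Groth.Agent.Ega3B.HLes Groth.Agent.Fga K865.FrobPull
  W4c5isocrystsimpconn

variable {X : Scheme.{u}}

/-- A module presented as the biproduct of `r` copies of the structure module. -/
structure FD (r : ℕ) (A : X.Modules) where
  /-- inclusions -/
  ι : Fin r → (Coh.structureModule X ⟶ A)
  /-- projections -/
  π : Fin r → (A ⟶ Coh.structureModule X)
  orth : ∀ i j, ι i ≫ π j = if i = j then 𝟙 _ else 0
  total : ∑ j, π j ≫ ι j = 𝟙 A

/-- A free module is a biproduct. -/
noncomputable def FD.ofIso {r : ℕ} {A : X.Modules} (e : A ≅ FlatMod.freeMod X r) : FD r A where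
  ι j := Sigma.ι (fun _ : Fin r => Coh.structureModule X) j ≫ e.inv
  π j := e.hom ≫ Sigma.desc (fun i => if i = j then 𝟙 _ else 0)
  orth i j := by
    rw [Category.assoc, Iso.inv_hom_id_assoc, Sigma.ι_desc]
  total := by
    have h : ∑ j, (Sigma.desc (fun i : Fin r => if i = j then 𝟙 (Coh.structureModule X) else 0) :
        FlatMod.freeMod X r ⟶ _) ≫ Sigma.ι (fun _ : Fin r => Coh.structureModule X) j = 𝟙 _ := by
      apply Sigma.hom_ext
      intro i
      rw [Preadditive.comp_sum, Category.comp_id]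
      rw [Finset.sum_eq_single i]
      · rw [Sigma.ι_desc_assoc, if_pos rfl, Category.id_comp]
      · intro j _ hj
        rw [Sigma.ι_desc_assoc, if_neg hj.symm, zero_comp]
      · intro h
        exact absurd (Finset.mem_univ i) h
    have h2 : ∀ j, (e.hom ≫ (Sigma.desc (fun i : Fin r => if i = j then 𝟙 (Coh.structureModule X) else 0) :
        FlatMod.freeMod X r ⟶ _)) ≫ (Sigma.ι (fun _ : Fin r => Coh.structureModule X) j ≫ e.inv) =
        e.hom ≫ ((Sigma.desc (fun i : Fin r => if i = j then 𝟙 (Coh.structureModule X) else 0) :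
          FlatMod.freeMod X r ⟶ _) ≫ Sigma.ι (fun _ : Fin r => Coh.structureModule X) j) ≫ e.inv := by
      intro j
      simp only [Category.assoc]
    rw [Finset.sum_congr rfl (fun j _ => h2 j), ← Preadditive.comp_sum, ← Preadditive.sum_comp, h,
      Category.id_comp, Iso.hom_inv_id]

/-- A biproduct of copies of the structure module is free. -/
theorem FD.nonempty_iso {r : ℕ} {A : X.Modules} (D : FD r A) :
    Nonempty (A ≅ FlatMod.freeMod X r) := by
  refine ⟨{ hom := ∑ j, D.π j ≫ Sigma.ι (fun _ : Fin r => Coh.structureModule X) j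
            inv := Sigma.desc D.ι
            hom_inv_id := ?_
            inv_hom_id := ?_ }⟩
  · rw [Preadditive.sum_comp, ← D.total]
    refine Finset.sum_congr rfl fun j _ => ?_
    rw [Category.assoc, Sigma.ι_desc]
  · apply Sigma.hom_ext
    intro i
    rw [Sigma.ι_desc_assoc, Preadditive.comp_sum, Category.comp_id, Finset.sum_eq_single i]
    · rw [← Category.assoc, D.orth, if_pos rfl, Category.id_comp]
    · intro j _ hj
      rw [← Category.assoc, D.orth, if_neg hj.symm, zero_comp]
    · intro h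
      exact absurd (Finset.mem_univ i) h

theorem hmap_sum {ι : Type*} (s : Finset ι) {M N : X.Modules} (f : ι → (M ⟶ N)) (n : ℕ)
    (x : Coh.HH X M n) : hmap (∑ j ∈ s, f j) n x = ∑ j ∈ s, hmap (f j) n x := by
  classical
  induction s using Finset.induction_on with
  | empty =>
    rw [Finset.sum_empty, Finset.sum_empty]
    change ((Sheaf.functorH _ n).map (0 : Coh.toAb M ⟶ Coh.toAb N)).hom x = 0
    rw [Functor.map_zero]
    rfl
  | insert a s ha ih =>
    rw [Finset.sum_insert ha, Finset.sum_insert ha, ← ih]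
    change ((Sheaf.functorH _ n).map (toAbMap (f a) + toAbMap (∑ j ∈ s, f j))).hom x = _
    rw [Functor.map_add]
    rfl

theorem hmap_comp {M N K : X.Modules} (φ : M ⟶ N) (ψ : N ⟶ K) (n : ℕ) (x : Coh.HH X M n) :
    hmap (φ ≫ ψ) n x = hmap ψ n (hmap φ n x) := by
  change Sheaf.H.map (toAbMap φ ≫ toAbMap ψ) n x = _
  rw [Sheaf.H.map_comp_apply]

theorem hmap_id (M : X.Modules) (n : ℕ) (x : Coh.HH X M n) : hmap (𝟙 M) n x = x := by
  change Sheaf.H.map (𝟙 (Coh.toAb M)) n x = _
  rw [Sheaf.H.map_id_apply]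

theorem FD.ext {r : ℕ} {A : X.Modules} (D : FD r A) (n : ℕ) (x : Coh.HH X A n)
    (h : ∀ j, hmap (D.π j) n x = 0) : x = 0 := by
  rw [← hmap_id A n x, ← D.total, hmap_sum]
  refine Finset.sum_eq_zero fun j _ => ?_
  rw [hmap_comp, h, map_zero]

variable (p : ℕ) [Fact p.Prime] [IsCharP X p]

/-- The Frobenius pull-back. -/
noncomputable abbrev Fp : X.Modules ⥤ X.Modules := Scheme.Modules.pullback (frob X p)

instance : (Fp (X := X) p).Additive :=
  inferInstanceAs (Scheme.Modules.pullback (frob X p)).Additive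

/-- Frobenius pull-back of a biproduct. -/
noncomputable def FD.frob {r : ℕ} {A : X.Modules} (D : FD r A) : FD r ((Fp p).obj A) where
  ι j := inv (UnitRestrict.pullbackUnitHom (FrobSch.frob X p)) ≫ (Fp p).map (D.ι j)
  π j := (Fp p).map (D.π j) ≫ UnitRestrict.pullbackUnitHom (FrobSch.frob X p)
  orth i j := by
    rw [Category.assoc, ← Functor.map_comp_assoc, D.orth]
    split_ifs with h
    · rw [CategoryTheory.Functor.map_id, Category.id_comp, IsIso.inv_hom_id]
    · rw [Functor.map_zero, zero_comp, comp_zero]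
  total := by
    rw [← CategoryTheory.Functor.map_id, ← D.total, Functor.map_sum]
    refine Finset.sum_congr rfl fun j _ => ?_
    rw [Category.assoc, IsIso.hom_inv_id_assoc, Functor.map_comp]

theorem FD.frob_π {r : ℕ} {A : X.Modules} (D : FD r A) (j : Fin r) (n : ℕ) (x : Coh.HH X A n) :
    hmap ((D.frob p).π j) n (Sheaf.H.map (uMap p A) n x) = frobH X p n (hmap (D.π j) n x) := by
  change Sheaf.H.map (toAbMap ((Fp p).map (D.π j)) ≫
    toAbMap (UnitRestrict.pullbackUnitHom (FrobSch.frob X p))) n (Sheaf.H.map (uMap p A) n x) =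
      Sheaf.H.map (frobAb X p) n (Sheaf.H.map (toAbMap (D.π j)) n x)
  rw [← Sheaf.H.map_comp_apply, ← Sheaf.H.map_comp_apply, ← Category.assoc, uMap_naturality,
    Category.assoc, uMap_unit]

/-- The class `1 ∈ H⁰(X, O_X)`. -/
noncomputable def one : Coh.HH X (Coh.structureModule X) 0 :=
  (Sheaf.H.equiv₀ (Coh.toAb (Coh.structureModule X)) (isTerminalTop (α := X.Opens))).symm
    (1 : Γ(X, ⊤))

theorem frobH_one : frobH X p 0 (one (X := X)) = one := by
  apply (Sheaf.H.equiv₀ (Coh.toAb (Coh.structureModule X)) (isTerminalTop (α := X.Opens))).injective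
  change Sheaf.H.equiv₀ _ _ (Sheaf.H.map (frobAb X p) 0 one) = _
  rw [← Sheaf.H.equiv₀_naturality, one, AddEquiv.apply_symm_apply]
  exact one_pow (M := Γ(X, ⊤)) p

/-- The Frobenius pull-back of an extension of `O_X`. -/
theorem frob_short {A G : X.Modules} {i : A ⟶ G} {q : G ⟶ Coh.structureModule X} {w : i ≫ q = 0}
    (hS : (ShortComplex.mk i q w).ShortExact) :
    ∃ w' : (Fp p).map i ≫ ((Fp p).map q ≫ UnitRestrict.pullbackUnitHom (FrobSch.frob X p)) = 0,
      (ShortComplex.mk ((Fp p).map i)
        ((Fp p).map q ≫ UnitRestrict.pullbackUnitHom (FrobSch.frob X p)) w').ShortExact := by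
  have hO : FlatMod.IsFinLocFree (Coh.structureModule X) :=
    Dcoh.ResFree.isFinLocFree_unit
  have h := Krr.H496.PullK0.shortExact_pullback_of_isFinLocFree (FrobSch.frob X p) hS hO
  have w' : (Fp p).map i ≫ ((Fp p).map q ≫ UnitRestrict.pullbackUnitHom (FrobSch.frob X p)) = 0 := by
    rw [← Functor.map_comp_assoc, w, Functor.map_zero, zero_comp]
  refine ⟨w', ShortComplex.shortExact_of_iso ?_ h⟩
  refine ShortComplex.isoMk (Iso.refl _) (Iso.refl _)
    (UnitRestrict.pullbackUnitIso (FrobSch.frob X p)) ?_ ?_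
  · exact (Category.id_comp _).trans (Category.comp_id _).symm
  · exact Category.id_comp _

/-- The class of the Frobenius pull-back of an extension. -/
theorem frob_class {A G : X.Modules} {i : A ⟶ G} {q : G ⟶ Coh.structureModule X} {w : i ≫ q = 0}
    (hS : (ShortComplex.mk i q w).ShortExact)
    {w' : (Fp p).map i ≫ ((Fp p).map q ≫ UnitRestrict.pullbackUnitHom (FrobSch.frob X p)) = 0}
    (hS' : (ShortComplex.mk ((Fp p).map i)
        ((Fp p).map q ≫ UnitRestrict.pullbackUnitHom (FrobSch.frob X p)) w').ShortExact) :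
    δab (shortExact_abShort hS') 0 one =
      Sheaf.H.map (uMap p A) 1 (δab (shortExact_abShort hS) 0 one) := by
  let φ : abShort (ShortComplex.mk i q w) ⟶ abShort (ShortComplex.mk ((Fp p).map i)
      ((Fp p).map q ≫ UnitRestrict.pullbackUnitHom (FrobSch.frob X p)) w') :=
    { τ₁ := uMap p A
      τ₂ := uMap p G
      τ₃ := frobAb X p
      comm₁₂ := uMap_naturality p i
      comm₂₃ := by
        change uMap p G ≫ (toAbMap ((Fp p).map q) ≫
          toAbMap (UnitRestrict.pullbackUnitHom (FrobSch.frob X p))) = toAbMap q ≫ frobAb X p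
        rw [← Category.assoc, uMap_naturality, Category.assoc, uMap_unit] }
  have h := δab_naturality (shortExact_abShort hS) (shortExact_abShort hS') φ 0 one
  have h2 : Sheaf.H.map φ.τ₃ 0 one = one := frobH_one p
  rw [h2] at h
  exact h

/-- An extension of `O_X` by a free module with trivial class is free. -/
theorem free_of_class_eq_zero {r : ℕ} {A G : X.Modules} {i : A ⟶ G}
    {q : G ⟶ Coh.structureModule X} {w : i ≫ q = 0}
    (hS : (ShortComplex.mk i q w).ShortExact) (D : FD r A)
    (h : δab (shortExact_abShort hS) 0 one = 0) : Nonempty (G ≅ FlatMod.freeMod X (r + 1)) := by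
  obtain ⟨y, hy⟩ := (ab_exact₃ (shortExact_abShort hS) 0 one).1 h
  let s : Γ(G, ⊤) := Sheaf.H.equiv₀ (Coh.toAb G) (isTerminalTop (α := X.Opens)) y
  have hs : q.app ⊤ s = Dcoh.FinLocFree.fn ⊤ (1 : Γ(X, ⊤)) := by
    have h1 := Sheaf.H.equiv₀_naturality (isTerminalTop (α := X.Opens)) (toAbMap q) y
    have h2 : Sheaf.H.map (toAbMap q) 0 y = one := hy
    rw [h2, one, AddEquiv.apply_symm_apply] at h1
    exact h1
  have hσ : Dcoh.FinLocFree.ofSec s ≫ q = 𝟙 _ := by
    apply Dcoh.FinLocFree.hom_ext_unit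
    rw [Dcoh.FinLocFree.unitSec_comp, Dcoh.FinLocFree.unitSec_ofSec, hs]
    rfl
  have : Mono i := hS.mono_f
  let sp : (ShortComplex.mk i q w).Splitting :=
    ShortComplex.Splitting.ofExactOfSection _ hS.exact (Dcoh.FinLocFree.ofSec s) hσ hS.mono_f
  obtain ⟨e⟩ := D.nonempty_iso
  obtain ⟨e₂⟩ := Dcoh.FinLocFree.nonempty_biprod_freeMod_iso X r 1
  let u : Coh.structureModule X ≅ FlatMod.freeMod X 1 :=
    (coproductUniqueIso (fun _ : Fin 1 => Coh.structureModule X)).symm
  exact ⟨sp.isoBinaryBiproduct ≪≫ biprod.mapIso e u ≪≫ e₂⟩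

/-- If the components of the class are killed by the `b`-th power of Frobenius, then the `b`-fold Frobenius
pull-back is free. -/
theorem iterate_free {r : ℕ} (b : ℕ) : ∀ {A G : X.Modules} {i : A ⟶ G}
    {q : G ⟶ Coh.structureModule X} {w : i ≫ q = 0}
    (hS : (ShortComplex.mk i q w).ShortExact) (D : FD r A),
    (∀ j, (frobH X p 1)^[b] (hmap (D.π j) 1 (δab (shortExact_abShort hS) 0 one)) = 0) →
      Nonempty ((Fp p).obj^[b] G ≅ FlatMod.freeMod X (r + 1)) := by
  induction b with
  | zero =>
    intro A G i q w hS D h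
    exact free_of_class_eq_zero hS D (D.ext 1 _ h)
  | succ b ih =>
    intro A G i q w hS D h
    obtain ⟨w', hS'⟩ := frob_short p hS
    refine ih hS' (D.frob p) fun j => ?_
    rw [frob_class p hS hS', D.frob_π p]
    exact h j

/-- Iterated Frobenius pull-backs of an extension of `O_X`. -/
theorem iterate_short (n : ℕ) : ∀ {A G : X.Modules} {i : A ⟶ G}
    {q : G ⟶ Coh.structureModule X} {w : i ≫ q = 0},
    (ShortComplex.mk i q w).ShortExact →
      ∃ (i' : (Fp p).obj^[n] A ⟶ (Fp p).obj^[n] G) (q' : (Fp p).obj^[n] G ⟶ Coh.structureModule X)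
        (w' : i' ≫ q' = 0), (ShortComplex.mk i' q' w').ShortExact := by
  induction n with
  | zero =>
    intro A G i q w hS
    exact ⟨i, q, w, hS⟩
  | succ n ih =>
    intro A G i q w hS
    obtain ⟨w', hS'⟩ := frob_short p hS
    exact ih hS'

/-- **Frobenius trivialises iterated extensions of `O_X`** when it is nilpotent on `H¹(X, O_X)`. -/
theorem main (b : ℕ) (hb : ∀ x : Coh.HH X (Coh.structureModule X) 1, (frobH X p 1)^[b] x = 0)
    (r : ℕ) (E : X.Modules) (hE : IsIterExt X r E) :
    Nonempty ((Fp p).obj^[b * (r - 1)] E ≅ FlatMod.freeMod X r) := by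
  induction r generalizing E with
  | zero => exact Dcoh.ResFree.isZero_iso_freeMod hE
  | succ r ih =>
    obtain ⟨E', i, q, w, hE', hS⟩ := hE
    rcases r with _ | r
    · have hz : IsZero E' := hE'
      have h1 : Epi q := hS.epi_g
      have h2 : Mono q := hS.exact.mono_g (hz.eq_of_src _ _)
      have h3 : IsIso q := isIso_of_mono_of_epi q
      exact ⟨@asIso _ _ _ _ q h3 ≪≫ (coproductUniqueIso (fun _ : Fin 1 => Coh.structureModule X)).symm⟩
    · obtain ⟨e⟩ := ih E' hE'
      obtain ⟨i', q', w', hS'⟩ := iterate_short p (b * (r + 1 - 1)) hS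
      have h := iterate_free p b hS' (FD.ofIso e) (fun j => hb _)
      rw [← Function.iterate_add_apply] at h
      have h2 : b + b * (r + 1 - 1) = b * (r + 1 + 1 - 1) := by
        rw [Nat.add_sub_cancel, Nat.add_sub_cancel, Nat.mul_succ, Nat.add_comm]
      rwa [h2] at h

end K865.IterFree
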