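import Groth.Agent.S0591
import Groth.Agent.S2075

import Groth.Agent.PerfSch.K818.Exist
import Groth.Agent.PerfSch.K818.Struct

/-!
# Composites of perfections of flat morphisms of finite presentation

`exists_stage`: a flat morphism of finite presentation `Z₀ → Y` onto the perfection of a qcqs scheme `Y₀` is the
base change of such a morphism `W → Y₀` along some leg `Y → Y₀` of the Frobenius tower.
`isPerfection_of_isPullback`: base change of a perfection, and composition.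
-/

set_option autoImplicit false

universe u

open CategoryTheory CategoryTheory.Limits AlgebraicGeometry Opposite

namespace K865.PerfFact

open FrobSch K818 K818.Tower

variable {p : ℕ} [Fact p.Prime]

theorem exists_stage {Y Y₀ Z₀ : Scheme.{u}} [IsCharP Y p] [IsCharP Y₀ p] [CompactSpace Y₀]
    [QuasiSeparatedSpace Y₀] (πY : Y ⟶ Y₀) (hY : IsPerfection πY p)
    (f₀ : Z₀ ⟶ Y) [Flat f₀] [LocallyOfFinitePresentation f₀] [QuasiCompact f₀] [QuasiSeparated f₀] :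
    ∃ (n : ℕ) (l : Y ⟶ Y₀) (W : Scheme.{u}) (w : W ⟶ Y₀) (q : Z₀ ⟶ W), Flat w ∧
      LocallyOfFinitePresentation w ∧ QuasiCompact w ∧ QuasiSeparated w ∧ IsPerfection l p ∧
      l ≫ frobIter Y₀ p n = πY ∧ IsPullback q f₀ w l := by
  let D := towerD Y₀ p
  let c : Cone D := towerCone πY hY.1
  have hc : IsLimit c := isLimitTowerCone hY
  have hcomp : ∀ i, CompactSpace (D.obj i) := fun _ => inferInstanceAs (CompactSpace Y₀)
  have hqs : ∀ i, QuasiSeparatedSpace (D.obj i) := fun _ => inferInstanceAs (QuasiSeparatedSpace Y₀)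
  have haff : ∀ (i j : (ULift.{u} ℕ)ᵒᵖ) (f : i ⟶ j), IsAffineHom (D.map f) :=
    fun _ _ f => isAffineHom_towerD_map Y₀ f
  let f₀' : Z₀ ⟶ c.pt := f₀
  have e1 : Flat f₀' := inferInstanceAs (Flat f₀)
  have e2 : LocallyOfFinitePresentation f₀' := inferInstanceAs (LocallyOfFinitePresentation f₀)
  have e3 : QuasiCompact f₀' := inferInstanceAs (QuasiCompact f₀)
  have e4 : QuasiSeparated f₀' := inferInstanceAs (QuasiSeparated f₀)
  obtain ⟨i₀, Z₁, f₁, g, hf₁, hf₂, hf₃, hpb⟩ := Groth.Agent.S0591.result D c hc Z₀ f₀'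
  have hZ₁ : CompactSpace Z₁ := QuasiCompact.compactSpace_of_compactSpace f₁
  have hZ₁' : QuasiSeparatedSpace Z₁ := quasiSeparatedSpace_of_quasiSeparated f₁
  obtain ⟨i, φ, Xi, Yi, fi, gi, pY, pX, h1, h2, h3⟩ := Groth.Agent.S2075.result D c hc i₀ f₁ (𝟙 _)
    f₀' (𝟙 _) (c.π.app i₀) g (IsPullback.of_vert_isIso ⟨by simp⟩) hpb
  have hgi : IsIso gi := h1.isIso_snd_of_isIso
  have hP : IsPullback pX (fi ≫ gi) f₁ (D.map φ) := by
    have := h2.paste_vert h1
    rwa [Category.comp_id] at this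
  let q : Z₀ ⟶ Xi := hP.lift g (f₀' ≫ c.π.app i) (by rw [Category.assoc, c.w φ, hpb.w])
  have hq1 : q ≫ pX = g := hP.lift_fst _ _ _
  have hq2 : q ≫ (fi ≫ gi) = f₀' ≫ c.π.app i := hP.lift_snd _ _ _
  have hsq : IsPullback q f₀' (fi ≫ gi) (c.π.app i) := by
    refine IsPullback.of_right (h₁₂ := pX) (v₁₃ := f₁) (h₂₂ := D.map φ) ?_ hq2 hP
    rw [hq1, c.w φ]
    exact hpb
  obtain ⟨l, hldef⟩ : ∃ l : Y ⟶ Y₀, l = c.π.app i := ⟨_, rfl⟩
  have hn : frobIter Y p i.unop.down ≫ l = πY := by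
    rw [hldef]
    exact frobIter_towerCone hY.1 i.unop.down
  have hiso : IsIso (frobIter Y p i.unop.down) := isIso_frobIter hY.1 _
  have hl : IsPerfection l p := by
    have h := Basic.isPerfection_iso_comp hY (asIso (frobIter Y p i.unop.down)).symm
    have h' : (asIso (frobIter Y p i.unop.down)).symm.hom ≫ πY = l := by
      rw [Iso.symm_hom, asIso_inv, IsIso.inv_comp_eq, hn]
    rwa [h'] at h
  refine ⟨i.unop.down, l, Xi, (fi ≫ gi : Xi ⟶ Y₀), q, ?_, ?_, ?_, ?_, hl, ?_, ?_⟩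
  · exact inferInstanceAs (Flat (fi ≫ gi))
  · exact MorphismProperty.of_isPullback (P := @LocallyOfFinitePresentation) hP hf₁
  · exact MorphismProperty.of_isPullback (P := @QuasiCompact) hP hf₂
  · exact MorphismProperty.of_isPullback (P := @QuasiSeparated) hP hf₃
  · rw [← frobIter_naturality]
    exact hn
  · rw [hldef]
    exact hsq

/-- If `Z → Z₀` is a perfection and `Z₀ → W` is the base change of a perfection `l`, then `Z → W` is a perfection. -/
theorem isPerfection_comp {Z Z₀ W Y Y₀ : Scheme.{u}} [IsCharP Z p] [IsCharP Y p] {πZ : Z ⟶ Z₀}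
    (hZ : IsPerfection πZ p) {q : Z₀ ⟶ W} {f₀ : Z₀ ⟶ Y} {w : W ⟶ Y₀} {l : Y ⟶ Y₀}
    (hsq : IsPullback q f₀ w l) (hl : IsPerfection l p) : IsPerfection (πZ ≫ q) p := by
  refine ⟨hZ.1, fun T _ hT => ⟨fun a b hab => ?_, fun g => ?_⟩⟩
  · apply (hZ.2 T hT).1
    apply hsq.hom_ext
    · simpa using hab
    · apply (hl.2 T hT).1
      have h : (a ≫ πZ ≫ q) ≫ w = (b ≫ πZ ≫ q) ≫ w := congrArg (fun t => t ≫ w) hab
      simpa [hsq.w] using h
  · obtain ⟨t, ht⟩ := (hl.2 T hT).2 (g ≫ w)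
    obtain ⟨z, hz⟩ := (hZ.2 T hT).2 (hsq.lift g t ht.symm)
    refine ⟨z, ?_⟩
    change z ≫ πZ ≫ q = g
    have hz' : z ≫ πZ = hsq.lift g t ht.symm := hz
    rw [reassoc_of% hz', hsq.lift_fst]

theorem exists_perfection_factor
    {X Y Z Y₀ Z₀ : Scheme.{u}} [FrobSch.IsCharP X p] [FrobSch.IsCharP Y p] [FrobSch.IsCharP Z p]
    [FrobSch.IsCharP Y₀ p] [FrobSch.IsCharP Z₀ p]
    [CompactSpace ↥X] [QuasiSeparatedSpace ↥X] (hX : FrobSch.IsPerfect X p)
    (g₀ : Y₀ ⟶ X) [Flat g₀] [LocallyOfFinitePresentation g₀] [QuasiCompact g₀] [QuasiSeparated g₀]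
    (πY : Y ⟶ Y₀) (hY : FrobSch.IsPerfection πY p)
    (f₀ : Z₀ ⟶ Y) [Flat f₀] [LocallyOfFinitePresentation f₀] [QuasiCompact f₀] [QuasiSeparated f₀]
    (πZ : Z ⟶ Z₀) (hZ : FrobSch.IsPerfection πZ p) :
    ∃ (W₀ : Scheme.{u}) (h₀ : W₀ ⟶ X) (ϖ : Z ⟶ W₀),
      Flat h₀ ∧ LocallyOfFinitePresentation h₀ ∧ QuasiCompact h₀ ∧ QuasiSeparated h₀ ∧
        FrobSch.IsPerfection ϖ p ∧ ϖ ≫ h₀ = πZ ≫ f₀ ≫ πY ≫ g₀ ∧
          (Surjective g₀ → Surjective f₀ → Surjective h₀) := by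
  have hc : CompactSpace Y₀ := QuasiCompact.compactSpace_of_compactSpace g₀
  have hq : QuasiSeparatedSpace Y₀ := quasiSeparatedSpace_of_quasiSeparated g₀
  obtain ⟨n, l, W, w, q, hw1, hw2, hw3, hw4, hl, hln, hsq⟩ := exists_stage πY hY f₀
  have hiso : IsIso (frobIter X p n) := isIso_frobIter hX n
  refine ⟨W, w ≫ g₀ ≫ frobIter X p n, πZ ≫ q, inferInstance, inferInstance, inferInstance,
    inferInstance, isPerfection_comp hZ hsq hl, ?_, ?_⟩
  · rw [Category.assoc, hsq.w_assoc, ← frobIter_naturality, reassoc_of% hln]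
  · intro hg hf
    have h1 : Surjective l := by
      have h := Struct.isUnivHomeo_of_isPerfection hl (𝟙 Y) (𝟙 Y₀) l
        (IsPullback.of_vert_isIso ⟨by simp⟩)
      exact ⟨IsHomeomorph.surjective h⟩
    have h2 : Surjective (q ≫ w) := by
      rw [hsq.w]
      infer_instance
    have h3 : Surjective w := by
      refine ⟨fun y => ?_⟩
      obtain ⟨x, hx⟩ := h2.surj y
      exact ⟨q x, hx⟩
    infer_instance

end K865.PerfFact
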