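import Groth.Agent.PerfA.QCohSerre
import Groth.Agent.Sga67.QCohEpi
import Groth.Agent.PerfB.ModExact
import Groth.Agent.CohqA.AffPush

/-!
# Direct image along an affine morphism: epimorphisms and cokernels of quasi-coherent modules
-/

set_option autoImplicit false

universe u

open CategoryTheory CategoryTheory.Limits AlgebraicGeometry Opposite TopologicalSpace
open AlgebraicGeometry.Scheme.Modules

namespace K865.PushCok

open Groth.Agent

variable {X Y : Scheme.{u}} (f : Y ⟶ X) [IsAffineHom f]

theorem epi_push {M N : Y.Modules} (u : M ⟶ N) [Epi u] (hM : Coh.IsQCoh M) (hN : Coh.IsQCoh N) :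
    Epi ((pushforward f).map u) := by
  refine PerfB.ModExact.epi_of_locally_surjective _ fun U y x hx => ?_
  obtain ⟨V, hV, hxV, hVU⟩ := exists_isAffineOpen_mem_and_subset hx
  obtain ⟨z, hz⟩ := Sga67.QCohEpi.app_surjective u hM hN (hV.preimage f)
    (((pushforward f).obj N).presheaf.map (homOfLE hVU).op y)
  exact ⟨V, hVU, hxV, z, hz⟩

theorem exists_desc_push {M N : Y.Modules} (u : M ⟶ N) (hM : Coh.IsQCoh M) (hN : Coh.IsQCoh N)
    {K : X.Modules} (b : (pushforward f).obj N ⟶ K) (hb : (pushforward f).map u ≫ b = 0) :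
    ∃ β : (pushforward f).obj (cokernel u) ⟶ K, (pushforward f).map (cokernel.π u) ≫ β = b := by
  have hQ : Coh.IsQCoh (cokernel u) := PerfA.QCohSerre.isQCoh_cokernel u hM hN
  have hI : Coh.IsQCoh (kernel (cokernel.π u)) := PerfA.QCohSerre.isQCoh_kernel _ hN hQ
  let S : ShortComplex Y.Modules :=
    ShortComplex.mk (kernel.ι (cokernel.π u)) (cokernel.π u) (kernel.condition _)
  have hS : S.Exact := ShortComplex.exact_of_f_is_kernel _ (kernelIsKernel _)
  have hp : PreservesLimitsOfSize.{0, 0} (pushforward f) :=
    (pullbackPushforwardAdjunction f).rightAdjoint_preservesLimits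
  have hp' : PreservesFiniteLimits (pushforward f) := PreservesLimitsOfSize.preservesFiniteLimits _
  have hmono : Mono S.f := inferInstanceAs (Mono (kernel.ι (cokernel.π u)))
  have h1 : (S.map (pushforward f)).Exact :=
    hS.map_of_mono_of_preservesKernel (pushforward f) hmono inferInstance
  have h2 : Epi (S.map (pushforward f)).g := epi_push f (cokernel.π u) hN hQ
  have h3 : Epi ((pushforward f).map (Abelian.factorThruImage u)) :=
    epi_push f (Abelian.factorThruImage u) hM hI
  have h4 : (pushforward f).map (Abelian.image.ι u) ≫ b = 0 := by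
    rw [← cancel_epi ((pushforward f).map (Abelian.factorThruImage u)), comp_zero,
      ← Functor.map_comp_assoc, Abelian.image.fac, hb]
  exact ⟨h1.desc b h4, h1.g_desc b h4⟩

end K865.PushCok
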