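import Groth.Agent.FrobSch.K865.PushCok
import Groth.Agent.Fdesc.LocGen
import Groth.Prelude.Def_ClSub2
import Groth.Prelude.Def_Frob

/-!
# Retracts of the cokernel of Frobenius along an affine morphism with a Frobenius compatible trace
-/

set_option autoImplicit false

universe u

open CategoryTheory CategoryTheory.Limits AlgebraicGeometry Opposite TopologicalSpace
open AlgebraicGeometry.Scheme.Modules

namespace K865.Retract

open Groth.Agent.Fdesc.LocGen FrobSch

variable {X Y : Scheme.{u}} {p : ℕ} [Fact p.Prime] [IsCharP X p] [IsCharP Y p] (f : Y ⟶ X)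

/-- `F_* f_* M ⟶ f_* F_* M`, the identity on sections. -/
noncomputable def swap (M : Y.Modules) :
    (pushforward (frob X p)).obj ((pushforward f).obj M) ⟶
      (pushforward f).obj ((pushforward (frob Y p)).obj M) :=
  mkHom (fun U => (AddMonoidHom.id Γ(M, f ⁻¹ᵁ U) :
      Γ((pushforward (frob X p)).obj ((pushforward f).obj M), U) →+
        Γ((pushforward f).obj ((pushforward (frob Y p)).obj M), U)))
    (fun U a m => by
      change f.app U (a ^ p) • (show Γ(M, f ⁻¹ᵁ U) from m) =
        (f.app U a) ^ p • (show Γ(M, f ⁻¹ᵁ U) from m)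
      rw [map_pow])
    (fun U V h m => rfl)

/-- `f_* F_* M ⟶ F_* f_* M`, the identity on sections. -/
noncomputable def swapInv (M : Y.Modules) :
    (pushforward f).obj ((pushforward (frob Y p)).obj M) ⟶
    (pushforward (frob X p)).obj ((pushforward f).obj M) :=
  mkHom (fun U => (AddMonoidHom.id Γ(M, f ⁻¹ᵁ U) :
      Γ((pushforward f).obj ((pushforward (frob Y p)).obj M), U) →+
      Γ((pushforward (frob X p)).obj ((pushforward f).obj M), U)))
    (fun U a m => by
      change (f.app U a) ^ p • (show Γ(M, f ⁻¹ᵁ U) from m) =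
        f.app U (a ^ p) • (show Γ(M, f ⁻¹ᵁ U) from m)
      rw [map_pow])
    (fun U V h m => rfl)

@[reassoc]
theorem swap_swapInv (M : Y.Modules) : swap (p := p) f M ≫ swapInv f M = 𝟙 _ := by
  apply Scheme.Modules.hom_ext
  intro U
  ext m
  rfl

theorem square_unit :
    ClSub.unitToPush (frob X p) ≫ (pushforward (frob X p)).map (ClSub.unitToPush f) ≫
      swap f (Coh.structureModule Y) =
    ClSub.unitToPush f ≫ (pushforward f).map (ClSub.unitToPush (frob Y p)) := by
  apply Scheme.Modules.hom_ext
  intro U
  ext m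
  let a : Γ(X, U) := m
  exact map_pow (f.app U).hom a p

variable (τ : (pushforward f).obj (Coh.structureModule Y) ⟶ Coh.structureModule X)

variable {f} in
/-- the values of `τ : f_* O_Y ⟶ O_X` on functions -/
noncomputable def val (U : X.Opens) (a : Γ(Y, f ⁻¹ᵁ U)) : Γ(X, U) :=
  ofFun.symm (τ.app U (show Γ((pushforward f).obj (Coh.structureModule Y), U) from ofFun a))

theorem square_trace (hτ : ∀ (U : X.Opens) (a : Γ(Y, f ⁻¹ᵁ U)), val τ U (a ^ p) = val τ U a ^ p) :
    (pushforward f).map (ClSub.unitToPush (frob Y p)) ≫ swapInv f (Coh.structureModule Y) ≫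
      (pushforward (frob X p)).map τ = τ ≫ ClSub.unitToPush (frob X p) := by
  apply Scheme.Modules.hom_ext
  intro U
  ext m
  exact hτ U m

/-- the map `coker (O_X → F_* O_X) ⟶ f_* coker (O_Y → F_* O_Y)` -/
noncomputable def alpha : cokernel (ClSub.unitToPush (frob X p)) ⟶
    (pushforward f).obj (cokernel (ClSub.unitToPush (frob Y p))) :=
  cokernel.desc _ ((pushforward (frob X p)).map (ClSub.unitToPush f) ≫
      swap f (Coh.structureModule Y) ≫ (pushforward f).map (cokernel.π _)) (by
    have h := square_unit (p := p) f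
    have h2 := congrArg (fun t => t ≫ (pushforward f).map (cokernel.π (ClSub.unitToPush (frob Y p)))) h
    simp only [Category.assoc] at h2
    rw [h2, ← Functor.map_comp, cokernel.condition, Functor.map_zero, comp_zero])

theorem exists_retraction [IsAffineHom f]
    (hqO : Coh.IsQCoh (Coh.structureModule Y))
    (hqF : Coh.IsQCoh ((pushforward (frob Y p)).obj (Coh.structureModule Y)))
    (hsec : ClSub.unitToPush f ≫ τ = 𝟙 _)
    (hτ : ∀ (U : X.Opens) (a : Γ(Y, f ⁻¹ᵁ U)), val τ U (a ^ p) = val τ U a ^ p) :
    ∃ β : (pushforward f).obj (cokernel (ClSub.unitToPush (frob Y p))) ⟶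
      cokernel (ClSub.unitToPush (frob X p)), alpha f ≫ β = 𝟙 _ := by
  obtain ⟨β, hβ⟩ := PushCok.exists_desc_push f (ClSub.unitToPush (frob Y p)) hqO hqF
    (K := cokernel (ClSub.unitToPush (frob X p)))
    (swapInv f (Coh.structureModule Y) ≫ (pushforward (frob X p)).map τ ≫ cokernel.π _) (by
      have h2 := congrArg (fun t => t ≫ cokernel.π (ClSub.unitToPush (frob X p))) (square_trace f τ hτ)
      simp only [Category.assoc] at h2
      rw [h2, cokernel.condition, comp_zero])
  refine ⟨β, ?_⟩
  rw [← cancel_epi (cokernel.π (ClSub.unitToPush (frob X p))), Category.comp_id, alpha,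
    cokernel.π_desc_assoc, Category.assoc, Category.assoc, hβ, swap_swapInv_assoc,
    ← Functor.map_comp_assoc, hsec, CategoryTheory.Functor.map_id, Category.id_comp]

end K865.Retract
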