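import Mathlib.RingTheory.Trace.Basic
import Mathlib.LinearAlgebra.Matrix.Adjugate
import Mathlib.LinearAlgebra.Matrix.CharP

/-!
# The trace of a rank two algebra commutes with Frobenius
-/

set_option autoImplicit false

namespace K865.TrFrob

open Matrix

theorem add_adjugate_fin_two {R : Type*} [CommRing R] (M : Matrix (Fin 2) (Fin 2) R) :
    M + M.adjugate = Matrix.trace M • (1 : Matrix (Fin 2) (Fin 2) R) := by
  rw [Matrix.adjugate_fin_two]
  ext i j
  fin_cases i <;> fin_cases j <;> simp [Matrix.trace_fin_two, add_comm]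

theorem trace_pow_fin_two {R : Type*} [CommRing R] {p : ℕ} [Fact p.Prime] (hp : (p : R) = 0)
    (M : Matrix (Fin 2) (Fin 2) R) : Matrix.trace (M ^ p) = Matrix.trace M ^ p := by
  rcases subsingleton_or_nontrivial R with hR | hR
  · exact Subsingleton.elim _ _
  have : CharP R p := (CharP.charP_iff_prime_eq_zero Fact.out).2 hp
  have h1 := add_adjugate_fin_two (M ^ p)
  rw [Matrix.adjugate_pow] at h1
  have hc : Commute M M.adjugate := by
    rw [Commute, SemiconjBy, Matrix.mul_adjugate, Matrix.adjugate_mul]
  rw [← add_pow_char_of_commute _ hc, add_adjugate_fin_two, smul_pow, one_pow] at h1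
  have h2 := congrFun (congrFun h1 0) 0
  simpa using h2.symm

theorem algebraTrace_pow {R B : Type*} [CommRing R] [CommRing B] [Algebra R B]
    (b : Module.Basis (Fin 2) R B) {p : ℕ} [Fact p.Prime] (hp : (p : R) = 0) (x : B) :
    Algebra.trace R B (x ^ p) = Algebra.trace R B x ^ p := by
  rw [Algebra.trace_eq_matrix_trace b, Algebra.trace_eq_matrix_trace b, map_pow,
    trace_pow_fin_two hp]

end K865.TrFrob
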