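import Groth.Agent.FinCov.K993.Rank
import Groth.Agent.FrobSch.K865.Retract
import Groth.Agent.FrobSch.K865.TrFrob
import Mathlib.AlgebraicGeometry.Morphisms.QuasiSeparated

/-!
# The normalised trace of a degree two cover in odd characteristic commutes with Frobenius
-/

set_option autoImplicit false
set_option linter.unusedSectionVars false

universe u

open CategoryTheory CategoryTheory.Limits AlgebraicGeometry Opposite TopologicalSpace
open AlgebraicGeometry.Scheme.Modules

namespace K865.TrCover

open Groth.Agent.Fdesc.LocGen Groth.Agent.Ega2.BasSec FrobSch K993.QAlg K993.Trace K993.Rank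

section QCAlg

variable {X : Scheme.{u}} {A : RelSpec.QCAlg X} {p : ℕ} [Fact p.Prime] [IsCharP X p]

theorem natCast_eq_zero_S (U : X.Opens) : (p : S A U) = 0 := by
  have h := congrArg (algebraMap Γ(X, U) (S A U)) (natCast_eq_zero_app X p U)
  rw [map_natCast, map_zero] at h
  exact h

theorem isTr_pow (hA : FlatMod.IsFinLocFreeOfRank 2 A.toModule) {U : X.Opens} {a : S A U} {t : Γ(X, U)}
    (h : IsTr a t) : IsTr (a ^ p) (t ^ p) := by
  intro V hV hb
  rw [map_pow, map_pow, h V hV hb]
  generalize resA A hV a = a'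
  rw [isFinLocFreeOfRank_iff] at hA
  choose W e hx he using hA
  refine ores_ext (fun x : V => W x.1 ⊓ V) (fun x => inf_le_right) ?_ (fun x => ?_)
  · intro x hx'
    exact Opens.mem_iSup.mpr ⟨⟨x, hx'⟩, hx x, hx'⟩
  · rw [← hb.trace_res, map_pow, map_pow, ← hb.trace_res]
    obtain ⟨b, -⟩ := exists_basis (he x.1) (inf_le_left : W x.1 ⊓ V ≤ W x.1)
    rw [TrFrob.algebraTrace_pow b (natCast_eq_zero_app X p _)]

theorem tr_pow (hA : FlatMod.IsFinLocFreeOfRank 2 A.toModule) {U : X.Opens} (a : S A U) :
    tr (isFinLocFree hA) U (a ^ p) = tr (isFinLocFree hA) U a ^ p :=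
  (isTr_tr (isFinLocFree hA) (a ^ p)).unique (isFinLocFree hA)
    (isTr_pow hA (isTr_tr (isFinLocFree hA) a))

theorem tr_algebraMap (hA : FlatMod.IsFinLocFreeOfRank 2 A.toModule) {U : X.Opens} (r : Γ(X, U)) :
    tr (isFinLocFree hA) U (algebraMap Γ(X, U) (S A U) r) = 2 • r :=
  (isTr_tr (isFinLocFree hA) _).unique (isFinLocFree hA) (isTr_algebraMap hA r)

end QCAlg

section Cover

variable {X Y : Scheme.{u}} (f : Y ⟶ X) [QuasiCompact f] [QuasiSeparated f]

/-- the module of the direct image algebra is the direct image module -/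
noncomputable def dirIso :
    (RelSpec.QCAlg.directImage f).toModule ≅ (pushforward f).obj (Coh.structureModule Y) where
  hom := mkHom (fun U => (AddMonoidHom.id Γ(Y, f ⁻¹ᵁ U) :
      Γ((RelSpec.QCAlg.directImage f).toModule, U) →+
        Γ((pushforward f).obj (Coh.structureModule Y), U)))
    (fun U a m => rfl) (fun U V h m => rfl)
  inv := mkHom (fun U => (AddMonoidHom.id Γ(Y, f ⁻¹ᵁ U) :
        Γ((pushforward f).obj (Coh.structureModule Y), U) →+
          Γ((RelSpec.QCAlg.directImage f).toModule, U)))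
    (fun U a m => rfl) (fun U V h m => rfl)
  hom_inv_id := by
    apply Scheme.Modules.hom_ext
    intro U
    ext m
    rfl
  inv_hom_id := by
    apply Scheme.Modules.hom_ext
    intro U
    ext m
    rfl

theorem isFinLocFreeOfRank_directImage {d : ℕ}
    (h : FlatMod.IsFinLocFreeOfRank d ((pushforward f).obj (Coh.structureModule Y))) :
    FlatMod.IsFinLocFreeOfRank d (RelSpec.QCAlg.directImage f).toModule := by
  intro x
  obtain ⟨U, hx, ⟨e⟩⟩ := h x
  exact ⟨U, hx, ⟨(restrictFunctor U.ι).mapIso (dirIso f) ≪≫ e⟩⟩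

variable {p : ℕ} [Fact p.Prime] [IsCharP X p] [IsCharP Y p]

theorem exists_trace (hp : p ≠ 2)
    (h : FlatMod.IsFinLocFreeOfRank 2 ((pushforward f).obj (Coh.structureModule Y))) :
    ∃ τ : (pushforward f).obj (Coh.structureModule Y) ⟶ Coh.structureModule X,
      ClSub.unitToPush f ≫ τ = 𝟙 _ ∧
        ∀ (U : X.Opens) (a : Γ(Y, f ⁻¹ᵁ U)), Retract.val τ U (a ^ p) = Retract.val τ U a ^ p := by
  have hA := isFinLocFreeOfRank_directImage f h
  obtain ⟨m, hm⟩ : ∃ m : ℕ, 2 * m = p + 1 := by
    have h2 := (Fact.out : p.Prime).eq_two_or_odd'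
    obtain ⟨k, hk⟩ := h2.resolve_left hp
    exact ⟨k + 1, by omega⟩
  let trm : ∀ U : X.Opens, S (RelSpec.QCAlg.directImage f) U →+ Γ(X, U) := fun U =>
    m • tr (isFinLocFree hA) U
  have htrm : ∀ U a, trm U a = m • tr (isFinLocFree hA) U a := fun U a => rfl
  let τ : (pushforward f).obj (Coh.structureModule Y) ⟶ Coh.structureModule X :=
    (dirIso f).inv ≫ mkHom (fun U => (ofFun (X := X) (U := U)).toAddMonoidHom.comp
        ((trm U).comp (toG (RelSpec.QCAlg.directImage f) U).symm.toAddEquiv.toAddMonoidHom))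
    (fun U a t => by
      change trm U (a • (toG _ U).symm t) = a * trm U ((toG _ U).symm t)
      rw [htrm, htrm, mul_smul_comm]
      congr 1
      exact (isTr_tr (isFinLocFree hA) _).unique (isFinLocFree hA)
        (isTr_smul a (isTr_tr (isFinLocFree hA) _)))
    (fun U V h t => by
      change trm V (resA _ h ((toG _ U).symm t)) = ores h (trm U ((toG _ U).symm t))
      rw [htrm, htrm, map_nsmul]
      congr 1
      exact (isTr_tr (isFinLocFree hA) _).unique (isFinLocFree hA)
        (isTr_res h (isTr_tr (isFinLocFree hA) _)))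
  refine ⟨τ, ?_, ?_⟩
  · apply Scheme.Modules.hom_ext
    intro U
    ext a
    let r : Γ(X, U) := a
    change m • tr (isFinLocFree hA) U
      (algebraMap Γ(X, U) (S (RelSpec.QCAlg.directImage f) U) r) = r
    rw [tr_algebraMap hA r, smul_smul, mul_comm, hm, add_smul, one_smul, nsmul_eq_mul, natCast_eq_zero_app X p U,
      zero_mul, zero_add]
  · intro U a
    let b : S (RelSpec.QCAlg.directImage f) U := a
    change m • tr (isFinLocFree hA) U (b ^ p) = (m • tr (isFinLocFree hA) U b) ^ p
    rw [tr_pow hA b]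
    have h2 := map_nsmul (powHom p Γ(X, U) (natCast_eq_zero_app X p U)) m
      (tr (isFinLocFree hA) U b)
    exact h2.symm

end Cover

end K865.TrCover
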